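import Mathlib

/-!
# Elements of prime power order and a lemma on abelian centralizers (for S3922)

`lemmaK` (helper54): a subgroup `D` whose `r`-part and `l`-part are central in `D` and such that
`D` contains the centralizers of all its noncentral `r`-elements and `l`-elements; `r` odd,
`r ∣ |G : D|`. Then no element `u ∉ D` with `u² ∈ D` normalizes `D`.
-/

set_option autoImplicit false

namespace Cfsg.Agent.H32.Ito

open Subgroup
open scoped commutatorElement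

variable {G : Type*} [Group G]

/-- `x` is a `p`-element. -/
def PEl (p : ℕ) (x : G) : Prop := ∃ i : ℕ, x ^ (p ^ i) = 1

theorem PEl.one (p : ℕ) : PEl p (1 : G) := ⟨0, by simp⟩

theorem PEl.inv {p : ℕ} {x : G} (h : PEl p x) : PEl p x⁻¹ := by
  obtain ⟨i, hi⟩ := h
  exact ⟨i, by rw [inv_pow, hi, inv_one]⟩

theorem PEl.mul {p : ℕ} {x y : G} (hx : PEl p x) (hy : PEl p y) (h : x * y = y * x) :
    PEl p (x * y) := by
  obtain ⟨i, hi⟩ := hx
  obtain ⟨j, hj⟩ := hy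
  refine ⟨i + j, ?_⟩
  have hc : Commute x y := h
  rw [hc.mul_pow, pow_add, pow_mul, hi, one_pow, mul_comm, pow_mul, hj, one_pow, one_mul]

theorem PEl.conj {p : ℕ} {x : G} (h : PEl p x) (g : G) : PEl p (g * x * g⁻¹) := by
  obtain ⟨i, hi⟩ := h
  exact ⟨i, by rw [conj_pow, hi, mul_one, mul_inv_cancel]⟩

theorem PEl.map {p : ℕ} {H : Type*} [Group H] (f : G →* H) {x : G} (h : PEl p x) :
    PEl p (f x) := by
  obtain ⟨i, hi⟩ := h
  exact ⟨i, by rw [← map_pow, hi, map_one]⟩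

theorem pel_of_orderOf {p : ℕ} {x : G} {i : ℕ} (h : orderOf x = p ^ i) : PEl p x :=
  ⟨i, by rw [← h]; exact pow_orderOf_eq_one x⟩

theorem PEl.exists_orderOf {p : ℕ} [Fact p.Prime] {x : G} (h : PEl p x) :
    ∃ i : ℕ, orderOf x = p ^ i := by
  obtain ⟨i, hi⟩ := h
  obtain ⟨k, -, hk⟩ := (Nat.dvd_prime_pow Fact.out).mp (orderOf_dvd_of_pow_eq_one hi)
  exact ⟨k, hk⟩

theorem IsPGroup.pel {p : ℕ} {P : Subgroup G} (h : IsPGroup p P) {x : G} (hx : x ∈ P) :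
    PEl p x := by
  obtain ⟨i, hi⟩ := h ⟨x, hx⟩
  exact ⟨i, congrArg Subtype.val hi⟩

/-- If `x ^ a` and `x ^ b` lie in `H` with `a`, `b` coprime then `x ∈ H`. -/
theorem mem_of_pow_mem {H : Subgroup G} {x : G} {a b : ℕ} (h : a.Coprime b)
    (ha : x ^ a ∈ H) (hb : x ^ b ∈ H) : x ∈ H := by
  have hbez : (1 : ℤ) = (a : ℤ) * Nat.gcdA a b + (b : ℤ) * Nat.gcdB a b := by
    have := Nat.gcd_eq_gcd_ab a b
    rw [h] at this
    exact_mod_cast this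
  have h2 : x = (x ^ a) ^ (Nat.gcdA a b) * (x ^ b) ^ (Nat.gcdB a b) := by
    rw [← zpow_natCast, ← zpow_natCast, ← zpow_mul, ← zpow_mul, ← zpow_add, ← hbez, zpow_one]
  rw [h2]
  exact H.mul_mem (H.zpow_mem ha _) (H.zpow_mem hb _)

theorem PEl.mem_of_pow_mem {p : ℕ} {x : G} (hx : PEl p x) {H : Subgroup G} {m : ℕ}
    (hm : m.Coprime p) (h : x ^ m ∈ H) : x ∈ H := by
  obtain ⟨i, hi⟩ := hx
  exact Ito.mem_of_pow_mem (a := m) (b := p ^ i) (hm.pow_right _) h (by rw [hi]; exact H.one_mem)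

/-- **Lemma K.** -/
theorem lemmaK [Finite G] {r l : ℕ} [Fact r.Prime] [Fact l.Prime] (hr2 : r ≠ 2) (hrl : r ≠ l)
    {D : Subgroup G}
    (hY : ∀ y ∈ D, PEl r y → ∀ d ∈ D, d * y = y * d)
    (hL : ∀ y ∈ D, PEl l y → ∀ d ∈ D, d * y = y * d)
    (hYc : ∀ y ∈ D, PEl r y → y ∉ center G → centralizer {y} ≤ D)
    (hLc : ∀ y ∈ D, PEl l y → y ∉ center G → centralizer {y} ≤ D)
    {y₀ : G} (hy0 : y₀ ∈ D) (hy0r : PEl r y₀) (hy0Z : y₀ ∉ center G)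
    {s₀ : G} (hs0 : s₀ ∈ D) (hs0l : PEl l s₀) (hs0Z : s₀ ∉ center G)
    (hrD : r ∣ D.index)
    {u : G} (huD : u ∉ D) (hu2 : u * u ∈ D) (huN : ∀ d ∈ D, u * d * u⁻¹ ∈ D) : False := by
  classical
  -- the `r`-part of `D`
  let Y : Subgroup G :=
    { carrier := {y | y ∈ D ∧ PEl r y}
      one_mem' := ⟨D.one_mem, PEl.one r⟩
      mul_mem' := fun {a b} ha hb => ⟨D.mul_mem ha.1 hb.1, ha.2.mul hb.2 (hY b hb.1 hb.2 a ha.1)⟩
      inv_mem' := fun {a} ha => ⟨D.inv_mem ha.1, ha.2.inv⟩ }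
  have hYmem : ∀ y, y ∈ Y ↔ y ∈ D ∧ PEl r y := fun y => Iff.rfl
  have hYp : IsPGroup r Y := by
    intro y
    obtain ⟨i, hi⟩ := y.2.2
    exact ⟨i, Subtype.ext hi⟩
  obtain ⟨P, hP⟩ := hYp.exists_le_sylow
  have hYne : ¬ (P : Subgroup G) ≤ Y := by
    intro hle
    have h1 : D.index ∣ (P : Subgroup G).index :=
      Subgroup.index_dvd_of_le (hle.trans fun y hy => hy.1)
    exact P.not_dvd_index (hrD.trans h1)
  -- an `r`-element `g ∉ D` normalizing `Y`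
  obtain ⟨g, hgP, hgY, hgN⟩ : ∃ g : G, g ∈ (P : Subgroup G) ∧ g ∉ Y ∧
      ∀ y, y ∈ Y ↔ g * y * g⁻¹ ∈ Y := by
    have hnil : Group.IsNilpotent P := P.2.isNilpotent
    have hnc : NormalizerCondition P := Group.normalizerCondition_of_isNilpotent
    have hlt : Y.subgroupOf P < ⊤ := by
      rw [lt_top_iff_ne_top]
      intro h
      rw [Subgroup.subgroupOf_eq_top] at h
      exact hYne h
    obtain ⟨g, hgN, hgY⟩ := Set.exists_of_ssubset (hnc _ hlt)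
    refine ⟨g, g.2, fun h => hgY (Subgroup.mem_subgroupOf.mpr h), ?_⟩
    intro y
    have hgN' : g ∈ normalizer ((Y.subgroupOf P : Subgroup P) : Set P) := hgN
    rw [Subgroup.mem_normalizer_iff] at hgN'
    constructor
    · intro hy
      exact Subgroup.mem_subgroupOf.mp ((hgN' ⟨y, hP hy⟩).mp (Subgroup.mem_subgroupOf.mpr hy))
    · intro hy
      have h1 : y ∈ (P : Subgroup G) := by
        have h2 : (g : G)⁻¹ * (g * y * (g : G)⁻¹) * g ∈ (P : Subgroup G) :=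
          (P : Subgroup G).mul_mem ((P : Subgroup G).mul_mem ((P : Subgroup G).inv_mem g.2)
            (hP hy)) g.2
        have h3 : (g : G)⁻¹ * (g * y * (g : G)⁻¹) * g = y := by group
        rwa [h3] at h2
      exact Subgroup.mem_subgroupOf.mp ((hgN' ⟨y, h1⟩).mpr (Subgroup.mem_subgroupOf.mpr hy))
  have hgr : PEl r g := IsPGroup.pel P.2 hgP
  have hgD : g ∉ D := fun h => hgY ⟨h, hgr⟩
  have hconjZ : ∀ x y : G, y ∈ center G → x * y * x⁻¹ ∈ center G :=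
    fun x y hy => (inferInstance : (center G).Normal).conj_mem y hy x
  have hcentral : ∀ z ∈ center G, ∀ x : G, x * z = z * x :=
    fun z hz x => Subgroup.mem_center_iff.mp hz x
  -- `D = C(y)` for the noncentral `y ∈ Y`
  have hDcz : ∀ y ∈ Y, y ∉ center G → ∀ d : G, d ∈ D ↔ d * y = y * d := by
    intro y hy hyZ d
    constructor
    · intro hd
      exact hY y hy.1 hy.2 d hd
    · intro hd
      exact hYc y hy.1 hy.2 hyZ (Subgroup.mem_centralizer_singleton_iff.mpr hd)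
  have hy0Y : y₀ ∈ Y := ⟨hy0, hy0r⟩
  -- `g` normalizes `D`
  have hgnD : ∀ d ∈ D, g * d * g⁻¹ ∈ D := by
    intro d hd
    have h1 : g * y₀ * g⁻¹ ∈ Y := (hgN _).mp hy0Y
    have h2 : g * y₀ * g⁻¹ ∉ center G := by
      intro h
      apply hy0Z
      have := hconjZ g⁻¹ _ h
      have h3 : g⁻¹ * (g * y₀ * g⁻¹) * g⁻¹⁻¹ = y₀ := by group
      rwa [h3] at this
    rw [hDcz _ h1 h2]
    have h3 : d * y₀ = y₀ * d := hY y₀ hy0 hy0r d hd
    calc g * d * g⁻¹ * (g * y₀ * g⁻¹) = g * (d * y₀) * g⁻¹ := by group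
      _ = g * (y₀ * d) * g⁻¹ := by rw [h3]
      _ = g * y₀ * g⁻¹ * (g * d * g⁻¹) := by group
  have hgnD' : ∀ d ∈ D, g⁻¹ * d * g ∈ D := by
    intro d hd
    -- `g⁻¹` also normalizes `Y`
    have h1 : g⁻¹ * y₀ * g ∈ Y := by
      rw [hgN]
      have h3 : g * (g⁻¹ * y₀ * g) * g⁻¹ = y₀ := by group
      rw [h3]
      exact hy0Y
    have h2 : g⁻¹ * y₀ * g ∉ center G := by
      intro h
      apply hy0Z
      have := hconjZ g _ h
      have h3 : g * (g⁻¹ * y₀ * g) * g⁻¹ = y₀ := by group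
      rwa [h3] at this
    rw [hDcz _ h1 h2]
    have h3 : d * y₀ = y₀ * d := hY y₀ hy0 hy0r d hd
    calc g⁻¹ * d * g * (g⁻¹ * y₀ * g) = g⁻¹ * (d * y₀) * g := by group
      _ = g⁻¹ * (y₀ * d) * g := by rw [h3]
      _ = g⁻¹ * y₀ * g * (g⁻¹ * d * g) := by group
  -- the key property of `u`, for both primes
  have key : ∀ p : ℕ, (∀ y ∈ D, PEl p y → ∀ d ∈ D, d * y = y * d) →
      (∀ y ∈ D, PEl p y → y ∉ center G → centralizer {y} ≤ D) →
      ∀ y ∈ D, PEl p y → y * (u * y * u⁻¹) ∈ center G := by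
    intro p h1 h2 y hy hyp
    by_contra hc
    have h3 : u * y * u⁻¹ ∈ D := huN y hy
    have h4 : PEl p (u * y * u⁻¹) := hyp.conj u
    have h5 : PEl p (y * (u * y * u⁻¹)) := hyp.mul h4 (h1 _ h3 h4 y hy)
    have h6 := h2 _ (D.mul_mem hy h3) h5 hc
    apply huD
    apply h6
    rw [Subgroup.mem_centralizer_singleton_iff]
    have h7 : u * u * y = y * (u * u) := h1 y hy hyp _ hu2
    have h8 : y * (u * y * u⁻¹) = (u * y * u⁻¹) * y := h1 _ h3 h4 y hy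
    calc u * (y * (u * y * u⁻¹)) = (u * y * u⁻¹) * (u * u * y) * u⁻¹ := by group
      _ = (u * y * u⁻¹) * (y * (u * u)) * u⁻¹ := by rw [h7]
      _ = (u * y * u⁻¹) * y * u := by group
      _ = y * (u * y * u⁻¹) * u := by rw [h8]
  -- the same for `w = g u g⁻¹`
  have keyw : ∀ p : ℕ, (∀ y ∈ D, PEl p y → ∀ d ∈ D, d * y = y * d) →
      (∀ y ∈ D, PEl p y → y ∉ center G → centralizer {y} ≤ D) →
      ∀ y ∈ D, PEl p y → y * (g * u * g⁻¹ * y * (g * u * g⁻¹)⁻¹) ∈ center G := by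
    intro p h1 h2 y hy hyp
    have h3 : g⁻¹ * y * g ∈ D := hgnD' y hy
    have h4 : PEl p (g⁻¹ * y * g) := by
      have := hyp.conj g⁻¹
      rwa [inv_inv] at this
    have h5 := key p h1 h2 _ h3 h4
    have h6 := hconjZ g _ h5
    have h7 : g * (g⁻¹ * y * g * (u * (g⁻¹ * y * g) * u⁻¹)) * g⁻¹ =
      y * (g * u * g⁻¹ * y * (g * u * g⁻¹)⁻¹) := by group
    rwa [h7] at h6
  -- `v = w u⁻¹` lies in `D`
  set v : G := g * u * g⁻¹ * u⁻¹ with hv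
  have hvz : ∀ p : ℕ, (∀ y ∈ D, PEl p y → ∀ d ∈ D, d * y = y * d) →
      (∀ y ∈ D, PEl p y → y ∉ center G → centralizer {y} ≤ D) →
      ∀ y ∈ D, PEl p y → v * y * v⁻¹ * y⁻¹ ∈ center G := by
    intro p h1 h2 y hy hyp
    -- `u⁻¹ y u = u y u⁻¹`
    have h7 : u * u * y = y * (u * u) := h1 y hy hyp _ hu2
    have h8 : u⁻¹ * y * u = u * y * u⁻¹ := by
      have : u⁻¹ * (u * u * y) * u⁻¹ = u⁻¹ * (y * (u * u)) * u⁻¹ := by rw [h7]
      calc u⁻¹ * y * u = u⁻¹ * (y * (u * u)) * u⁻¹ := by group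
        _ = u⁻¹ * (u * u * y) * u⁻¹ := by rw [h7]
        _ = u * y * u⁻¹ := by group
    have h9 : u⁻¹ * y * u ∈ D := by rw [h8]; exact huN y hy
    have h10 : PEl p (u⁻¹ * y * u) := by
      have := hyp.conj u⁻¹
      rwa [inv_inv] at this
    have h11 := keyw p h1 h2 _ h9 h10
    have h12 := key p h1 h2 _ h9 h10
    have h13 : u * (u⁻¹ * y * u) * u⁻¹ = y := by group
    rw [h13] at h12
    -- `v y v⁻¹ = w (u⁻¹ y u) w⁻¹`
    have h14 : g * u * g⁻¹ * (u⁻¹ * y * u) * (g * u * g⁻¹)⁻¹ = v * y * v⁻¹ := by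
      rw [hv]; group
    rw [h14] at h11
    have h15 : v * y * v⁻¹ * y⁻¹ =
        (u⁻¹ * y * u * y)⁻¹ * (u⁻¹ * y * u * (v * y * v⁻¹)) := by
      have h16 := hcentral _ h11 ((u⁻¹ * y * u * y)⁻¹)
      rw [h16]
      have h17 : u⁻¹ * y * u * (v * y * v⁻¹) * (u⁻¹ * y * u * y)⁻¹ =
        u⁻¹ * y * u * (v * y * v⁻¹ * y⁻¹) * (u⁻¹ * y * u)⁻¹ := by group
      have h18 : v * y * v⁻¹ * y⁻¹ = (u⁻¹ * y * u)⁻¹ * (u⁻¹ * y * u * (v * y * v⁻¹) *
        (u⁻¹ * y * u * y)⁻¹) * (u⁻¹ * y * u) := by group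
      rw [h18]
      have h19 : u⁻¹ * y * u * (v * y * v⁻¹) * (u⁻¹ * y * u * y)⁻¹ ∈ center G :=
        (center G).mul_mem h11 ((center G).inv_mem h12)
      have h20 := hcentral _ h19 (u⁻¹ * y * u)⁻¹
      rw [h20]
      group
    rw [h15]
    exact (center G).mul_mem ((center G).inv_mem h12) h11
  have hvpow : ∀ y : G, v * y * v⁻¹ * y⁻¹ ∈ center G → ∀ j : ℕ,
      v ^ j * y * (v ^ j)⁻¹ = (v * y * v⁻¹ * y⁻¹) ^ j * y := by
    intro y hy j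
    induction j with
    | zero => simp
    | succ j ih =>
      have h1 : v ^ (j + 1) * y * (v ^ (j + 1))⁻¹ = v * (v ^ j * y * (v ^ j)⁻¹) * v⁻¹ := by
        rw [pow_succ']; group
      rw [h1, ih]
      have h2 : (v * y * v⁻¹ * y⁻¹) ^ j ∈ center G := (center G).pow_mem hy j
      have h3 := hcentral _ h2 v
      calc v * ((v * y * v⁻¹ * y⁻¹) ^ j * y) * v⁻¹
          = (v * (v * y * v⁻¹ * y⁻¹) ^ j) * y * v⁻¹ := by group
        _ = ((v * y * v⁻¹ * y⁻¹) ^ j * v) * y * v⁻¹ := by rw [h3]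
        _ = (v * y * v⁻¹ * y⁻¹) ^ j * (v * y * v⁻¹ * y⁻¹) * y := by group
        _ = (v * y * v⁻¹ * y⁻¹) ^ (j + 1) * y := by rw [pow_succ]
  have hvcomm : ∀ y : G, v * y * v⁻¹ * y⁻¹ ∈ center G → ∀ N : ℕ, y ^ N = 1 →
      v ^ N * y = y * v ^ N := by
    intro y hy N hN
    have h1 : (v * y * v⁻¹ * y⁻¹) ^ N = 1 := by
      have h2 : (v * y * v⁻¹) ^ N = 1 := by rw [conj_pow, hN, mul_one, mul_inv_cancel]
      have h3 : v * y * v⁻¹ = (v * y * v⁻¹ * y⁻¹) * y := by group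
      rw [h3] at h2
      have h4 : Commute (v * y * v⁻¹ * y⁻¹) y := (hcentral _ hy y).symm
      rw [h4.mul_pow, hN, mul_one] at h2
      exact h2
    have h5 := hvpow y hy N
    rw [h1, one_mul] at h5
    calc v ^ N * y = (v ^ N * y * (v ^ N)⁻¹) * v ^ N := by group
      _ = y * v ^ N := by rw [h5]
  have hvD : v ∈ D := by
    obtain ⟨i, hi⟩ := hy0r
    obtain ⟨j, hj⟩ := hs0l
    have h1 : v ^ (r ^ i) ∈ D :=
      hYc y₀ hy0 ⟨i, hi⟩ hy0Z (Subgroup.mem_centralizer_singleton_iff.mpr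
        (hvcomm y₀ (hvz r hY hYc y₀ hy0 ⟨i, hi⟩) _ hi))
    have h2 : v ^ (l ^ j) ∈ D :=
      hLc s₀ hs0 ⟨j, hj⟩ hs0Z (Subgroup.mem_centralizer_singleton_iff.mpr
        (hvcomm s₀ (hvz l hL hLc s₀ hs0 ⟨j, hj⟩) _ hj))
    refine mem_of_pow_mem ?_ h1 h2
    exact Nat.Coprime.pow _ _ ((Nat.coprime_primes Fact.out Fact.out).mpr hrl)
  -- a noncentral `y₁ ∈ Y` centralized by `g` modulo `Z(G)`
  obtain ⟨y₁, hy1Y, hy1Z, hy1c⟩ : ∃ y₁ ∈ Y, y₁ ∉ center G ∧ g * y₁ * g⁻¹ * y₁⁻¹ ∈ center G := by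
    have hnil : Group.IsNilpotent P := P.2.isNilpotent
    obtain ⟨c, hc⟩ := (Subgroup.isNilpotent_iff_lowerCentralSeries (P : Subgroup G)).mp hnil
    have main : ∀ k : ℕ, ∀ n : ℕ, n + k = c → ∀ y ∈ Y, y ∉ center G →
        y ∈ (P : Subgroup G).lowerCentralSeries n →
        ∃ y₁ ∈ Y, y₁ ∉ center G ∧ g * y₁ * g⁻¹ * y₁⁻¹ ∈ center G := by
      intro k
      induction k with
      | zero =>
        intro n hn y hy hyZ hmem
        exfalso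
        rw [add_zero] at hn
        rw [hn, hc, Subgroup.mem_bot] at hmem
        apply hyZ
        rw [hmem]
        exact (center G).one_mem
      | succ k ih =>
        intro n hn y hy hyZ hmem
        by_cases hz : g * y * g⁻¹ * y⁻¹ ∈ center G
        · exact ⟨y, hy, hyZ, hz⟩
        · have h1 : g * y * g⁻¹ * y⁻¹ ∈ Y := Y.mul_mem ((hgN y).mp hy) (Y.inv_mem hy)
          refine ih (n + 1) (by omega) _ h1 hz ?_
          have h2 : ⁅y, g⁆ ∈ (P : Subgroup G).lowerCentralSeries (n + 1) := by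
            rw [Subgroup.lowerCentralSeries_succ]
            exact Subgroup.commutator_mem_commutator hmem hgP
          have h3 := Subgroup.inv_mem _ h2
          rw [commutatorElement_inv] at h3
          exact h3
    exact main c 0 (by omega) y₀ hy0Y hy0Z (by simpa using hP hy0Y)
  set z₀ : G := g * y₁ * g⁻¹ * y₁⁻¹ with hz0
  have hgy1 : g * y₁ * g⁻¹ = z₀ * y₁ := by rw [hz0]; group
  -- `y₂ = u y₁ u⁻¹`
  set y₂ : G := u * y₁ * u⁻¹ with hy2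
  have hy2Y : y₂ ∈ Y := ⟨huN y₁ hy1Y.1, hy1Y.2.conj u⟩
  have hgy2 : g * y₂ * g⁻¹ = z₀ * y₂ := by
    have h1 : v * y₂ = y₂ * v := hY y₂ hy2Y.1 hy2Y.2 v hvD
    calc g * y₂ * g⁻¹ = (g * u * g⁻¹) * (g * y₁ * g⁻¹) * (g * u * g⁻¹)⁻¹ := by rw [hy2]; group
      _ = (g * u * g⁻¹) * (z₀ * y₁) * (g * u * g⁻¹)⁻¹ := by rw [hgy1]
      _ = ((g * u * g⁻¹) * z₀) * y₁ * (g * u * g⁻¹)⁻¹ := by group
      _ = (z₀ * (g * u * g⁻¹)) * y₁ * (g * u * g⁻¹)⁻¹ := by rw [hcentral _ hy1c]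
      _ = z₀ * (v * y₂ * v⁻¹) := by rw [hv, hy2]; group
      _ = z₀ * (y₂ * v * v⁻¹) := by rw [h1]
      _ = z₀ * y₂ := by group
  have hcc : y₂ * y₁⁻¹ ∈ center G := by
    by_contra hc
    have h1 : y₂ * y₁⁻¹ ∈ Y := Y.mul_mem hy2Y (Y.inv_mem hy1Y)
    apply hgD
    rw [hDcz _ h1 hc]
    have h2 : g * (y₂ * y₁⁻¹) * g⁻¹ = y₂ * y₁⁻¹ := by
      calc g * (y₂ * y₁⁻¹) * g⁻¹ = (g * y₂ * g⁻¹) * (g * y₁ * g⁻¹)⁻¹ := by group
        _ = (z₀ * y₂) * (z₀ * y₁)⁻¹ := by rw [hgy2, hgy1]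
        _ = (z₀ * (y₂ * y₁⁻¹)) * z₀⁻¹ := by group
        _ = ((y₂ * y₁⁻¹) * z₀) * z₀⁻¹ := by rw [← hcentral _ hy1c (y₂ * y₁⁻¹)]
        _ = y₂ * y₁⁻¹ := by group
    calc g * (y₂ * y₁⁻¹) = (g * (y₂ * y₁⁻¹) * g⁻¹) * g := by group
      _ = y₂ * y₁⁻¹ * g := by rw [h2]
  have hsq : y₁ ^ 2 ∈ center G := by
    have h1 : y₁ * y₂ ∈ center G := key r hY hYc y₁ hy1Y.1 hy1Y.2
    have h3 : y₂ * y₁ = y₁ * y₂ := hY y₁ hy1Y.1 hy1Y.2 y₂ hy2Y.1
    have h2 : y₁ ^ 2 = (y₁ * y₂) * (y₂ * y₁⁻¹)⁻¹ := by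
      calc y₁ ^ 2 = y₁ * (y₁ * y₂) * y₂⁻¹ := by rw [pow_two]; group
        _ = y₁ * (y₂ * y₁) * y₂⁻¹ := by rw [h3]
        _ = (y₁ * y₂) * (y₂ * y₁⁻¹)⁻¹ := by group
    rw [h2]
    exact (center G).mul_mem h1 ((center G).inv_mem hcc)
  apply hy1Z
  refine hy1Y.2.mem_of_pow_mem (m := 2) ?_ hsq
  exact (Nat.coprime_primes Nat.prime_two Fact.out).mpr (Ne.symm hr2)

end Cfsg.Agent.H32.Ito
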