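import Cfsg.Agent.H32.FourRed
import Cfsg.Agent.H32.Ito.Basic
import Cfsg.Agent.Walter.StepAll
import Cfsg.Agent.S0144

/-!
# Abelian Sylow 2-subgroups and odd class sizes (for S3922)

`AbOdd.solvable`: if the Sylow 2-subgroups of `G` are abelian and for every odd prime `s ≠ r` all
the `s`-elements have odd class size then `G` is solvable.
-/

set_option autoImplicit false

namespace Cfsg.Agent.H32.Ito

open Subgroup Cfsg.Agent.H524.ClassSize Cfsg.Agent.H524.Sqf Cfsg.Agent.Walter

universe u

/-- The hypothesis. -/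
def AbOdd (G : Type*) [Group G] (r : ℕ) : Prop :=
  (∀ P : Subgroup G, IsPGroup 2 P → ∀ a ∈ P, ∀ b ∈ P, a * b = b * a) ∧
  ∀ x : G, (∃ s k : ℕ, s.Prime ∧ s ≠ 2 ∧ s ≠ r ∧ orderOf x = s ^ k) →
    ¬ 2 ∣ (centralizer ({x} : Set G)).index

theorem AbOdd.of_surjective {G : Type*} [Group G] [Finite G] {H : Type*} [Group H] {r : ℕ}
    (h : AbOdd G r) (f : G →* H) (hf : Function.Surjective f) : AbOdd H r := by
  have : Fact (Nat.Prime 2) := ⟨Nat.prime_two⟩
  have : Finite H := Finite.of_surjective f hf
  constructor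
  · intro P hP a ha b hb
    obtain ⟨Q, hQ⟩ := hP.exists_le_sylow
    obtain ⟨S, hS⟩ := Sylow.mapSurjective_surjective hf 2 Q
    have hS' : ∀ x ∈ (Q : Subgroup H), ∃ y ∈ (S : Subgroup G), f y = x := by
      intro x hx
      rw [← hS, Sylow.coe_mapSurjective] at hx
      exact hx
    obtain ⟨a', ha', rfl⟩ := hS' a (hQ ha)
    obtain ⟨b', hb', rfl⟩ := hS' b (hQ hb)
    rw [← map_mul, ← map_mul, h.1 S S.2 a' ha' b' hb']
  · rintro x ⟨s, k, hs, hs2, hsr, hx⟩ hd
    obtain ⟨y, rfl, j, hj⟩ := FourRed.exists_lift f hf hs hx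
    have h1 : centralizer ({y} : Set G) ≤ (centralizer ({f y} : Set H)).comap f := by
      intro z hz
      rw [mem_centralizer_singleton_iff] at hz
      rw [mem_comap, mem_centralizer_singleton_iff, ← map_mul, hz, map_mul]
    have h2 := Subgroup.index_dvd_of_le h1
    rw [Subgroup.index_comap_of_surjective _ hf] at h2
    exact h.2 y ⟨s, j, hs, hs2, hsr, hj⟩ (hd.trans h2)

theorem AbOdd.normal {G : Type*} [Group G] [Finite G] {r : ℕ} (h : AbOdd G r) (N : Subgroup G)
    [N.Normal] : AbOdd N r := by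
  constructor
  · intro P hP a ha b hb
    apply Subtype.ext
    exact h.1 (P.map N.subtype) (hP.map _) a ⟨a, ha, rfl⟩ b ⟨b, hb, rfl⟩
  · rintro x ⟨s, k, hs, hs2, hsr, hx⟩ hd
    have h1 : (centralizer ({x} : Set N)) = (centralizer ({(x : G)} : Set G)).subgroupOf N := by
      ext y
      rw [mem_centralizer_singleton_iff, mem_subgroupOf, mem_centralizer_singleton_iff,
        Subtype.ext_iff]
      rfl
    rw [h1] at hd
    refine h.2 (x : G) ⟨s, k, hs, hs2, hsr, ?_⟩ (hd.trans (relIndex_dvd N _))
    rw [Subgroup.orderOf_coe, hx]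

theorem AbOdd.comm_of_simple {G : Type*} [Group G] [Finite G] [hs : IsSimpleGroup G] {r : ℕ}
    (h : AbOdd G r) : IsMulCommutative G := by
  have : Fact (Nat.Prime 2) := ⟨Nat.prime_two⟩
  by_contra hna
  obtain ⟨T⟩ : Nonempty (Sylow 2 G) := inferInstance
  have hW : Types.WType G := Main.wType_of_step StepAll.step G hs hna T (h.1 T T.2)
  have hself := PSLFacts.WType.selfc hW T
  -- not solvable
  have hns : ¬ Group.IsSolvable G := by
    intro hsol
    apply hna
    exact ⟨⟨IsSimpleGroup.comm_iff_isSolvable.mpr hsol⟩⟩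
  -- a prime `s ≠ 2, r`
  obtain ⟨s, hs1, hsd, hs2, hsr⟩ : ∃ s : ℕ, s.Prime ∧ s ∣ Nat.card G ∧ s ≠ 2 ∧ s ≠ r := by
    by_contra hcon
    push Not at hcon
    apply hns
    have hsub : (Nat.card G).primeFactors ⊆ {2, r} := by
      intro s hs
      rw [Nat.mem_primeFactors] at hs
      by_cases h2 : s = 2
      · simp [h2]
      · simp [hcon s hs.1 hs.2.1 h2]
    have hcard := Nat.prod_factorization_pow_eq_self (n := Nat.card G) Nat.card_pos.ne'
    rw [Finsupp.prod, Nat.support_factorization] at hcard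
    by_cases hr : r.Prime ∧ r ≠ 2
    · refine Cfsg.Agent.S0144.result 2 r ((Nat.card G).factorization 2)
        ((Nat.card G).factorization r) Nat.prime_two hr.1 ?_
      rw [← Finset.prod_pair (f := fun p => p ^ ((Nat.card G).factorization p)) hr.2.symm]
      rw [← Finset.prod_subset hsub, hcard]
      intro x _ hx
      have : (Nat.card G).factorization x = 0 := by
        rwa [← Finsupp.notMem_support_iff, Nat.support_factorization]
      rw [this, pow_zero]
    · refine Cfsg.Agent.S0144.result 2 2 ((Nat.card G).factorization 2) 0 Nat.prime_two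
        Nat.prime_two ?_
      rw [pow_zero, mul_one]
      have hsub2 : (Nat.card G).primeFactors ⊆ {2} := by
        intro s hs
        have h1 := hsub hs
        rw [Nat.mem_primeFactors] at hs
        simp only [Finset.mem_insert, Finset.mem_singleton] at h1 ⊢
        rcases h1 with h1 | h1
        · exact h1
        · by_contra h2
          exact hr ⟨h1 ▸ hs.1, h1 ▸ h2⟩
      conv_lhs => rw [← hcard]
      rw [Finset.prod_subset hsub2, Finset.prod_singleton]
      intro x _ hx
      have : (Nat.card G).factorization x = 0 := by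
        rwa [← Finsupp.notMem_support_iff, Nat.support_factorization]
      rw [this, pow_zero]
  have : Fact s.Prime := ⟨hs1⟩
  obtain ⟨x, hx⟩ := exists_prime_orderOf_dvd_card' s hsd
  have hodd := h.2 x ⟨s, 1, hs1, hs2, hsr, by rw [hx, pow_one]⟩
  obtain ⟨g, hg⟩ := Cfsg.Agent.H531.TwoPrimes.conj_mem_centralizer T hodd
  have h1 := hself hg
  obtain ⟨k, hk⟩ := IsPGroup.iff_orderOf.mp T.2 ⟨_, h1⟩
  rw [Subgroup.orderOf_mk] at hk
  have h2 : orderOf (g * x * g⁻¹) = orderOf x := by
    have : g * x * g⁻¹ = MulAut.conj g x := rfl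
    rw [this, MulEquiv.orderOf_eq]
  rw [h2, hx] at hk
  have h3 : s ∣ 2 ^ k := by rw [← hk]
  exact hs2 ((Nat.prime_dvd_prime_iff_eq hs1 Nat.prime_two).1 (hs1.dvd_of_dvd_pow h3))

theorem AbOdd.solvable {r : ℕ} :
    ∀ (n : ℕ) (G : Type u) [Group G] [Finite G], Nat.card G = n → AbOdd G r →
      Group.IsSolvable G := by
  intro n
  induction n using Nat.strong_induction_on with
  | _ n ih =>
    intro G _ _ hn h
    rcases subsingleton_or_nontrivial G with hs | hnt
    · infer_instance
    by_cases hex : ∃ N : Subgroup G, N.Normal ∧ N ≠ ⊥ ∧ N ≠ ⊤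
    · obtain ⟨N, hN, hb, ht⟩ := hex
      have hcard := Subgroup.card_eq_card_quotient_mul_card_subgroup N
      have hq : 0 < Nat.card (G ⧸ N) := Nat.card_pos
      have hN0 : 0 < Nat.card N := Nat.card_pos
      have hN1 : Nat.card N ≠ 1 := fun h1 => hb (Subgroup.card_eq_one.mp h1)
      have hq1 : Nat.card (G ⧸ N) ≠ 1 := fun h1 => ht (Subgroup.index_eq_one.mp h1)
      have h1 : Group.IsSolvable N := by
        refine ih (Nat.card N) ?_ N rfl (h.normal N)
        rw [← hn, hcard]
        have : 2 ≤ Nat.card (G ⧸ N) := by omega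
        nlinarith
      have h2 : Group.IsSolvable (G ⧸ N) := by
        refine ih (Nat.card (G ⧸ N)) ?_ (G ⧸ N) rfl
          (h.of_surjective (QuotientGroup.mk' N) (QuotientGroup.mk'_surjective N))
        rw [← hn, hcard]
        have : 2 ≤ Nat.card N := by omega
        nlinarith
      exact Group.isSolvable_of_ker_le_range N.subtype (QuotientGroup.mk' N) (by simp)
    · push Not at hex
      have hsim : IsSimpleGroup G :=
        { exists_pair_ne := exists_pair_ne G
          eq_bot_or_eq_top_of_normal := fun N hN => by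
            by_cases hb : N = ⊥
            · exact Or.inl hb
            · exact Or.inr (hex N hN hb) }
      have hc := h.comm_of_simple
      exact Group.isSolvable_of_comm (fun a b => hc.is_comm.comm a b)

end Cfsg.Agent.H32.Ito
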