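import Cfsg.Agent.H32.Ito.TriFacts
import Cfsg.Agent.S0035
import Cfsg.Agent.S0039
import Cfsg.Agent.S0042
import Cfsg.Agent.S4248
import Cfsg.Agent.S4249

/-!
# Class sizes `1, n, m` with `n ∤ m` (for S3922)
-/

set_option autoImplicit false

namespace Cfsg.Agent.H32.Ito

open Subgroup Matrix
open scoped Pointwise

/-- A group with a Frobenius complement in which the centralizers of nontrivial elements are
solvable, is solvable. -/
theorem solvable_of_frobenius {Q : Type*} [Group Q] [Finite Q]
    (hsol : ∀ x : Q, x ≠ 1 → Group.IsSolvable (centralizer ({x} : Set Q)))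
    (H : Subgroup Q) (hH : Cfsg.IsFrobeniusComplement H) : Group.IsSolvable Q := by
  have : Fact (Nat.Prime 2) := ⟨Nat.prime_two⟩
  obtain ⟨K, hK, hKn, hc⟩ := Cfsg.Agent.S0035.result H hH
  obtain ⟨K', hK', -, hKnil⟩ := Cfsg.Agent.S0042.result H hH
  have hKK : K' = K := by
    apply SetLike.coe_injective
    rw [hK, hK']
  subst hKK
  have hKb : K' ≠ ⊥ := by
    rintro rfl
    exact hH.2.1 (Subgroup.isComplement'_bot_left.mp hc)
  have hfix := (Cfsg.Agent.S0039.result K' H hc hKb hH.1).mp hH
  suffices hHs : Group.IsSolvable H by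
    have h1 : Group.IsSolvable (Q ⧸ K') := by
      have e : H ≃* Q ⧸ K' := (hc.symm.QuotientMulEquiv).symm
      exact Group.isSolvable_of_surjective (f := e.toMonoidHom) e.surjective
    have h2 : Group.IsSolvable K' := inferInstance
    exact Group.isSolvable_of_ker_le_range K'.subtype (QuotientGroup.mk' K') (by simp)
  by_cases h2 : 2 ∣ Nat.card H
  · obtain ⟨⟨t, htH⟩, ht⟩ := exists_prime_orderOf_dvd_card' 2 h2
    rw [Subgroup.orderOf_mk] at ht
    have ht1 : t ≠ 1 := by
      rintro rfl
      rw [orderOf_one] at ht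
      omega
    have htt : t * t = 1 := by
      rw [← pow_two, ← ht]; exact pow_orderOf_eq_one t
    -- every involution of `H` inverts `K`
    have hinv : ∀ s ∈ H, s ≠ 1 → s * s = 1 → ∀ k ∈ K', s * k * s⁻¹ = k⁻¹ := by
      intro s hs hs1 hss k hk
      have hsi : s⁻¹ = s := inv_eq_of_mul_eq_one_left hss
      let f : K' → K' := fun k => ⟨(k : Q)⁻¹ * (s * k * s⁻¹),
        mul_mem (inv_mem k.2) (hKn.conj_mem _ k.2 s)⟩
      have hf : Function.Injective f := by
        intro a b hab
        have h1 : (a : Q)⁻¹ * (s * a * s⁻¹) = (b : Q)⁻¹ * (s * b * s⁻¹) :=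
          congrArg Subtype.val hab
        have h3 : (b : Q) * (a : Q)⁻¹ ∈ K' ⊓ centralizer {s} := by
          refine Subgroup.mem_inf.mpr ⟨mul_mem b.2 (inv_mem a.2), ?_⟩
          rw [mem_centralizer_singleton_iff]
          calc (b : Q) * (a : Q)⁻¹ * s
              = b * ((a : Q)⁻¹ * (s * a * s⁻¹)) * s * (a : Q)⁻¹ := by group
            _ = b * ((b : Q)⁻¹ * (s * b * s⁻¹)) * s * (a : Q)⁻¹ := by rw [h1]
            _ = s * (b * (a : Q)⁻¹) := by group
        rw [hfix s hs hs1, Subgroup.mem_bot, mul_inv_eq_one] at h3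
        exact Subtype.ext h3.symm
      obtain ⟨c, hc⟩ := (Finite.injective_iff_surjective.mp hf) ⟨k, hk⟩
      have hc' : (c : Q)⁻¹ * (s * c * s⁻¹) = k := congrArg Subtype.val hc
      rw [← hc']
      have h4 : s * s⁻¹ * (s⁻¹ * s) = 1 := by group
      calc s * ((c : Q)⁻¹ * (s * c * s⁻¹)) * s⁻¹ = s * (c : Q)⁻¹ * s * c * (s * s)⁻¹ := by group
        _ = s * (c : Q)⁻¹ * s⁻¹ * c := by rw [hss, inv_one, mul_one, hsi]
        _ = ((c : Q)⁻¹ * (s * c * s⁻¹))⁻¹ := by group
    have hle : H ≤ centralizer ({t} : Set Q) := by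
      intro h hh
      have ht' : h * t * h⁻¹ ∈ H := mul_mem (mul_mem hh htH) (inv_mem hh)
      have h1 : h * t * h⁻¹ ≠ 1 := by rwa [ne_eq, conj_eq_one_iff]
      have h3 : h * t * h⁻¹ * (h * t * h⁻¹) = 1 := by
        calc h * t * h⁻¹ * (h * t * h⁻¹) = h * (t * t) * h⁻¹ := by group
          _ = 1 := by rw [htt]; group
      have h4 : h * t * h⁻¹ * t⁻¹ = 1 := by
        by_contra hne
        obtain ⟨k, hk, hk1⟩ := (Subgroup.bot_or_exists_ne_one K').resolve_left hKb
        have h5 : k ∈ K' ⊓ centralizer {h * t * h⁻¹ * t⁻¹} := by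
          refine Subgroup.mem_inf.mpr ⟨hk, ?_⟩
          rw [mem_centralizer_singleton_iff]
          have h6 := hinv t htH ht1 htt k hk
          have h7 := hinv _ ht' h1 h3 k⁻¹ (inv_mem hk)
          have h8 : t⁻¹ * k * t = k⁻¹ := by
            have h9 : t⁻¹ = t := inv_eq_of_mul_eq_one_left htt
            rw [h9] at h6 ⊢
            exact h6
          rw [inv_inv] at h7
          have h10 : (h * t * h⁻¹ * t⁻¹) * k * (h * t * h⁻¹ * t⁻¹)⁻¹ = k := by
            calc (h * t * h⁻¹ * t⁻¹) * k * (h * t * h⁻¹ * t⁻¹)⁻¹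
                = (h * t * h⁻¹) * (t⁻¹ * k * t) * (h * t * h⁻¹)⁻¹ := by group
              _ = (h * t * h⁻¹) * k⁻¹ * (h * t * h⁻¹)⁻¹ := by rw [h8]
              _ = k := h7
          calc k * (h * t * h⁻¹ * t⁻¹)
              = ((h * t * h⁻¹ * t⁻¹) * k * (h * t * h⁻¹ * t⁻¹)⁻¹) * (h * t * h⁻¹ * t⁻¹) := by
                rw [h10]
            _ = h * t * h⁻¹ * t⁻¹ * k := by group
        rw [hfix _ (mul_mem ht' (inv_mem htH)) hne, Subgroup.mem_bot] at h5
        exact hk1 h5
      rw [mem_centralizer_singleton_iff]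
      rw [mul_inv_eq_one] at h4
      calc h * t = (h * t * h⁻¹) * h := by group
        _ = t * h := by rw [h4]
    have h3 := hsol t ht1
    exact Group.isSolvable_of_isSolvable_injective (Subgroup.inclusion_injective hle)
  · exact Cfsg.Agent.S0205.result (Nat.not_even_iff_odd.mp (fun he => h2 he.two_dvd))

/-- A group with solvable center quotient is solvable. -/
theorem solvable_of_mod_center {G : Type*} [Group G] (h : Group.IsSolvable (G ⧸ center G)) :
    Group.IsSolvable G := by
  have h2 : Group.IsSolvable (center G) :=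
    Group.isSolvable_of_comm fun a b => Subtype.ext (Subgroup.mem_center_iff.mp b.2 a)
  exact Group.isSolvable_of_ker_le_range (center G).subtype (QuotientGroup.mk' (center G))
    (by simp)

/-- **Case (b).** -/
theorem solvable_of_not_dvd {G : Type*} [Group G] [Finite G] {n m : ℕ}
    (hnm : n < m) (hd : ¬ n ∣ m)
    (hsz : ∀ x : G, x ∉ center G →
      (centralizer ({x} : Set G)).index = n ∨ (centralizer ({x} : Set G)).index = m) :
    Group.IsSolvable G := by
  by_contra hns
  have hF : FGrp G := by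
    intro x y hx hy hle
    have h1 := Subgroup.index_dvd_of_le hle
    have h2 := index_le_of_le hle
    rcases hsz x hx with h3 | h3 <;> rcases hsz y hy with h4 | h4
    · exact eq_of_le_of_index hle (by rw [h3, h4])
    · rw [h3, h4] at h2; omega
    · rw [h3, h4] at h1; exact absurd h1 hd
    · exact eq_of_le_of_index hle (by rw [h3, h4])
  have hna : ∃ x : G, x ∉ center G := by
    by_contra hcon
    push Not at hcon
    exact hns (Group.isSolvable_of_comm fun a b => Subgroup.mem_center_iff.mp (hcon b) a)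
  have hQ : ¬ Group.IsSolvable (G ⧸ center G) := fun h => hns (solvable_of_mod_center h)
  have hcs : ∀ q : G ⧸ center G, q ≠ 1 →
      Group.IsSolvable (centralizer ({q} : Set (G ⧸ center G))) := by
    intro q hq
    obtain ⟨x, rfl⟩ := QuotientGroup.mk_surjective q
    have hx : x ∉ center G := fun hc => hq ((QuotientGroup.eq_one_iff x).mpr hc)
    have h1 : Group.IsNilpotent (centralizer ({x} : Set G)) := hF.nilpotent_cz hx
    exact solvable_centralizer_mk inferInstance
  obtain ⟨h1, h2, h3⟩ := hF.partition hna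
  rcases Cfsg.Agent.S4248.result (part G) h1 h2 h3 with ⟨⟨e⟩⟩ | ⟨p, hp, hH⟩ | ⟨H, hH⟩ |
    ⟨F, _, _, h4, ⟨e⟩⟩ | ⟨F, _, _, h5, hodd, ⟨e⟩⟩ | hSz
  · -- `S₄`
    apply hQ
    refine Cfsg.Agent.S0144.result 2 3 3 1 Nat.prime_two Nat.prime_three ?_
    rw [Nat.card_congr e.toEquiv, Nat.card_perm]
    simp [Nat.factorial]
  · -- Hughes
    apply hQ
    have : Fact p.Prime := ⟨hp⟩
    by_cases hpg : IsPGroup p (G ⧸ center G)
    · have h4 : Group.IsNilpotent (G ⧸ center G) := hpg.isNilpotent
      infer_instance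
    · obtain ⟨h4, h5⟩ := Cfsg.Agent.S4249.result p hp hpg hH
      set M := Subgroup.closure {g : G ⧸ center G | g ^ p ≠ 1} with hM
      have hMn : M.Normal := by
        constructor
        intro x hx g
        rw [hM] at hx ⊢
        induction hx using Subgroup.closure_induction with
        | mem y hy =>
          apply Subgroup.subset_closure
          simp only [Set.mem_ofPred_eq] at hy ⊢
          rwa [conj_pow, ne_eq, conj_eq_one_iff]
        | one => simp
        | mul y z _ _ hy hz =>
          have : g * (y * z) * g⁻¹ = (g * y * g⁻¹) * (g * z * g⁻¹) := by group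
          rw [this]
          exact mul_mem hy hz
        | inv y _ hy =>
          have : g * y⁻¹ * g⁻¹ = (g * y * g⁻¹)⁻¹ := by group
          rw [this]
          exact inv_mem hy
      have h6 : Group.IsSolvable M := inferInstance
      have h7 : IsPGroup p ((G ⧸ center G) ⧸ M) :=
        IsPGroup.of_card (n := 1) (by rw [pow_one]; exact h5)
      have h8 : Group.IsNilpotent ((G ⧸ center G) ⧸ M) := h7.isNilpotent
      have h9 : Group.IsSolvable ((G ⧸ center G) ⧸ M) := inferInstance
      exact Group.isSolvable_of_ker_le_range M.subtype (QuotientGroup.mk' M) (by simp)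
  · exact hQ (solvable_of_frobenius hcs H hH)
  · -- `PSL(2,q)`
    have e' : (⊤ : Subgroup (G ⧸ center G)) ≃* ProjectiveSpecialLinearGroup (Fin 2) F :=
      Subgroup.topEquiv.trans e
    exact false_of_tri hsz ⊤ (by rw [Subgroup.index_top]; norm_num) ((tri_psl h4).congr e'.symm)
  · -- `PGL(2,q)`
    have e' : G ⧸ center G ≃* ProjGenLinGroup (Fin 2) F := e
    let f : ProjectiveSpecialLinearGroup (Fin 2) F →* G ⧸ center G :=
      e'.symm.toMonoidHom.comp ProjectiveSpecialLinearGroup.toPGL
    have hf : Function.Injective f :=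
      e'.symm.injective.comp ProjectiveSpecialLinearGroup.toPGL_injective
    have hfe : ProjectiveSpecialLinearGroup (Fin 2) F ≃* f.range := MonoidHom.ofInjective hf
    have hi : f.range.index = 2 := by
      have h6 := Subgroup.card_mul_index f.range
      rw [← Nat.card_congr hfe.toEquiv, Nat.card_congr e'.toEquiv,
        Cfsg.Agent.ClassicalGeometry.PSL2Basic.card_PGL2,
        ← Cfsg.Agent.ClassicalGeometry.PSL2Basic.card_PSL2_odd F hodd] at h6
      exact Nat.eq_of_mul_eq_mul_left Nat.card_pos h6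
    have hn : f.range.Normal := Subgroup.normal_of_index_eq_two hi
    exact false_of_tri hsz f.range (by rw [hi]) ((tri_psl (by omega)).congr hfe)
  · -- `Sz(q)`
    have h4 := (tri_suzuki hSz hQ).congr
      (Subgroup.topEquiv : (⊤ : Subgroup (G ⧸ center G)) ≃* G ⧸ center G).symm
    exact false_of_tri hsz ⊤ (by rw [Subgroup.index_top]; norm_num) h4

end Cfsg.Agent.H32.Ito
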