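import Cfsg.Agent.H32.Ito.ClaimH
import Cfsg.Agent.H32.Ito.AbOdd
import Cfsg.Agent.H538.TwoClosed
import Cfsg.Agent.H682.CT.TwoPrime
import Cfsg.Agent.S0564

/-!
# Class sizes `1, n, nk` where every prime divisor of `|G : Z(G)|` divides `k` (for S3922)

The proof is due to helper54.
-/

set_option autoImplicit false

namespace Cfsg.Agent.H32.Ito

open Subgroup Cfsg.Agent.H524.ClassSize
open scoped Pointwise

/-- Class sizes `1, n, nk`. -/
structure SizesC (G : Type*) [Group G] (n k : ℕ) : Prop where
  n1 : 1 < n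
  k1 : 1 < k
  sz : ∀ x : G, x ∉ center G → (centralizer ({x} : Set G)).index = n ∨
    (centralizer ({x} : Set G)).index = n * k
  exm : ∃ x : G, (centralizer ({x} : Set G)).index = n * k
  hk : ∀ s : ℕ, s.Prime → s ∣ (center G).index → s ∣ k
  two : 2 ∣ (center G).index
  three : ∀ q : ℕ, q.Prime → q ≠ 2 → ∃ r : ℕ, r.Prime ∧ r ≠ 2 ∧ r ≠ q ∧ r ∣ (center G).index

variable {G : Type*} [Group G] [Finite G] {n k : ℕ}

theorem SizesC.notMem (h : SizesC G n k) {x : G} (hx : (centralizer ({x} : Set G)).index = n) :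
    x ∉ center G := by
  intro hc
  rw [mem_center_iff_index, hx] at hc
  have := h.n1
  omega

theorem SizesC.notMem' (h : SizesC G n k) {x : G}
    (hx : (centralizer ({x} : Set G)).index = n * k) : x ∉ center G := by
  intro hc
  rw [mem_center_iff_index, hx] at hc
  have := h.n1
  have := h.k1
  nlinarith

theorem SizesC.le (h : SizesC G n k) {x : G} (hx : x ∉ center G) :
    n ≤ (centralizer ({x} : Set G)).index := by
  have := h.k1
  rcases h.sz x hx with h1 | h1
  · exact h1.ge
  · rw [h1]; nlinarith [h.n1]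

theorem SizesC.rel (h : SizesC G n k) {x : G} (hx : (centralizer ({x} : Set G)).index = n) :
    k ∣ (center G).relIndex (centralizer ({x} : Set G)) := by
  obtain ⟨z, hz⟩ := h.exm
  have h1 := relIndex_mul _ (center_le_cz x)
  have h2 := relIndex_mul _ (center_le_cz z)
  rw [hx] at h1
  rw [hz, ← h1] at h2
  have h3 : (center G).relIndex (centralizer ({z} : Set G)) * k =
      (center G).relIndex (centralizer ({x} : Set G)) := by
    have h4 : 0 < n := by have := h.n1; omega
    apply Nat.eq_of_mul_eq_mul_right h4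
    rw [← h2]; ring
  exact Dvd.intro_left _ h3

/-- The `q'`-elements of the centralizer of a `q`-element of class size `n`, `q` odd, are central
in this centralizer. -/
theorem SizesC.part1a (h : SizesC G n k) {q : ℕ} (hq : q.Prime) (hq2 : q ≠ 2) {w : G}
    (hw : PEl q w) (hwn : (centralizer ({w} : Set G)).index = n) :
    ∀ a ∈ centralizer ({w} : Set G), (orderOf a).Coprime q → ∀ d ∈ centralizer ({w} : Set G),
      d * a = a * d := by
  obtain ⟨r, hr, hr2, hrq, hrd⟩ := h.three q hq hq2
  set H := centralizer ({w} : Set G) with hH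
  have hn0 : 0 < n := by have := h.n1; omega
  have hsz : ∀ y : H, (orderOf y).Coprime q → (centralizer ({y} : Set H)).index = 1 ∨
      (centralizer ({y} : Set H)).index = k := by
    intro y hy
    have h1 : (centralizer ({y} : Set H)) = (centralizer ({(y : G)} : Set G)).subgroupOf H := by
      ext z
      rw [mem_centralizer_singleton_iff, mem_subgroupOf, mem_centralizer_singleton_iff,
        Subtype.ext_iff]
      rfl
    have hy' : (orderOf (y : G)).Coprime q := by rwa [Subgroup.orderOf_coe]
    have hc : (y : G) * w = w * y := mem_centralizer_singleton_iff.mp y.2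
    have h2 := cz_mul hc (hw.coprime_right hq hy').symm
    have h3 : (centralizer ({y} : Set H)).index =
        (centralizer ({(y : G) * w} : Set G)).relIndex H := by
      rw [h1, h2, Subgroup.inf_relIndex_right]
      rfl
    have h4 : centralizer ({(y : G) * w} : Set G) ≤ H := by rw [h2]; exact inf_le_right
    have h5 := Subgroup.relIndex_mul_index h4
    rw [hwn, ← h3] at h5
    have h6 : (y : G) * w ∉ center G := by
      intro hcon
      have h7 : centralizer ({(y : G) * w} : Set G) = ⊤ := by
        rw [← Subgroup.index_eq_one, ← mem_center_iff_index]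
        exact hcon
      rw [h7, top_le_iff] at h4
      rw [h4, Subgroup.index_top] at hwn
      have := h.n1
      omega
    rcases h.sz _ h6 with h7 | h7
    · left
      rw [h7] at h5
      exact Nat.eq_of_mul_eq_mul_right hn0 (by rw [h5, one_mul])
    · right
      rw [h7] at h5
      exact Nat.eq_of_mul_eq_mul_right hn0 (by rw [h5, mul_comm])
  have key := claimH (G := H) hq hq2 hr hr2 hrq (h.hk 2 Nat.prime_two h.two) (h.hk r hr hrd) hsz
  intro a ha haq d hd
  have h1 := key ⟨a, ha⟩ (by rwa [Subgroup.orderOf_mk])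
  have h2 := Subgroup.mem_center_iff.mp h1 ⟨d, hd⟩
  exact congrArg Subtype.val h2

/-- The centralizer of a `q`-element of class size `n`, `q` odd, contains noncentral `s`-elements for
all `s`. -/
theorem SizesC.exists_pel (h : SizesC G n k) {w : G}
    (hwn : (centralizer ({w} : Set G)).index = n) {s : ℕ} (hs : s.Prime)
    (hsd : s ∣ (center G).index) : ∃ x ∈ centralizer ({w} : Set G), PEl s x ∧ x ∉ center G :=
  exists_pel_of_dvd hs ((h.hk s hs hsd).trans (h.rel hwn))

/-- The centralizer of a `q`-element of class size `n`, `q` odd, is abelian. -/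
theorem SizesC.part1 (h : SizesC G n k) {q : ℕ} (hq : q.Prime) (hq2 : q ≠ 2) {w : G}
    (hw : PEl q w) (hwn : (centralizer ({w} : Set G)).index = n) :
    (∀ a ∈ centralizer ({w} : Set G), ∀ b ∈ centralizer ({w} : Set G), b * a = a * b) ∧
    ∀ x ∈ centralizer ({w} : Set G), x ∉ center G →
      centralizer ({x} : Set G) = centralizer ({w} : Set G) := by
  have : Fact q.Prime := ⟨hq⟩
  have hcomm : ∀ a ∈ centralizer ({w} : Set G), ∀ b ∈ centralizer ({w} : Set G),
      b * a = a * b := by
    obtain ⟨s, hs, hs2, hsq, hsd⟩ := h.three q hq hq2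
    obtain ⟨t, ht, hts, htZ⟩ := h.exists_pel hwn hs hsd
    have h1 := h.part1a hq hq2 hw hwn
    have h2 : centralizer ({w} : Set G) ≤ centralizer {t} := by
      intro d hd
      rw [mem_centralizer_singleton_iff]
      exact h1 t ht (hts.coprime hs hq hsq) d hd
    have h3 : centralizer ({w} : Set G) = centralizer {t} := by
      apply eq_of_le_of_index h2
      rw [hwn]
      exact h.le htZ
    have h4 := h.part1a hs hs2 hts (h3 ▸ hwn)
    rw [← h3] at h4
    intro a ha b hb
    obtain ⟨a1, a2, rfl, hc, ⟨i, hi⟩, ha2, haz1, haz2⟩ := exists_decomp q a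
    have hle : zpowers (a1 * a2) ≤ centralizer ({w} : Set G) := by
      rw [zpowers_le]; exact ha
    have h5 := h1 a2 (hle haz2) ha2 b hb
    have h6 := h4 a1 (hle haz1) ((pel_of_orderOf hi).coprime hq hs hsq.symm) b hb
    rw [← mul_assoc, h6, mul_assoc, h5, mul_assoc]
  refine ⟨hcomm, fun x hx hxZ => ?_⟩
  have h2 : centralizer ({w} : Set G) ≤ centralizer {x} := by
    intro d hd
    rw [mem_centralizer_singleton_iff]
    exact hcomm x hx d hd
  symm
  apply eq_of_le_of_index h2
  rw [hwn]
  exact h.le hxZ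

/-- An abelian subgroup whose index is a power of two: `G` is solvable. -/
theorem solvable_of_comm_index {D : Subgroup G} (hD : ∀ a ∈ D, ∀ b ∈ D, b * a = a * b)
    (hi : ∀ s : ℕ, s.Prime → s ∣ D.index → s = 2) : Group.IsSolvable G := by
  have : Fact (Nat.Prime 2) := ⟨Nat.prime_two⟩
  obtain ⟨P⟩ : Nonempty (Sylow 2 G) := inferInstance
  have h1 : Group.IsNilpotent D := by
    let _ : CommGroup D :=
      { (inferInstance : Group D) with mul_comm := fun a b => Subtype.ext (hD b b.2 a a.2) }
    exact CommGroup.isNilpotent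
  have h2 : Group.IsNilpotent (P : Subgroup G) := P.2.isNilpotent
  refine Cfsg.Agent.S0564.result D P h1 h2 ?_
  intro g
  apply Cfsg.Agent.H682.CT.TwoPrime.exists_mul_of_coprime
  rw [Nat.coprime_iff_gcd_eq_one]
  by_contra hne
  obtain ⟨s, hs, hsd⟩ := Nat.exists_prime_and_dvd hne
  have h3 := hi s hs (hsd.trans (Nat.gcd_dvd_left _ _))
  subst h3
  exact P.not_dvd_index (hsd.trans (Nat.gcd_dvd_right _ _))

/-- An abelian centralizer of class size `n` normalized by an element outside, whose square is
inside. -/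
theorem SizesC.abelian_case (h : SizesC G n k) (hns : ¬ Group.IsSolvable G) {w : G}
    (hwn : (centralizer ({w} : Set G)).index = n)
    (hcomm : ∀ a ∈ centralizer ({w} : Set G), ∀ b ∈ centralizer ({w} : Set G), b * a = a * b)
    (heq : ∀ x ∈ centralizer ({w} : Set G), x ∉ center G →
      centralizer ({x} : Set G) = centralizer ({w} : Set G))
    {u : G} (hu : u ∉ centralizer ({w} : Set G)) (hu2 : u ^ 2 ∈ centralizer ({w} : Set G))
    (hun : ∀ d ∈ centralizer ({w} : Set G), u * d * u⁻¹ ∈ centralizer ({w} : Set G)) : False := by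
  have : Fact (Nat.Prime 2) := ⟨Nat.prime_two⟩
  by_cases hex : ∃ r : ℕ, r.Prime ∧ r ≠ 2 ∧ r ∣ n
  · obtain ⟨r, hr, hr2, hrn⟩ := hex
    have : Fact r.Prime := ⟨hr⟩
    have hrd : r ∣ (center G).index := by
      refine hrn.trans ?_
      rw [← hwn]
      exact Dvd.intro_left _ (relIndex_mul _ (center_le_cz w))
    obtain ⟨y, hy, hyr, hyZ⟩ := h.exists_pel hwn hr hrd
    obtain ⟨s, hs, hsr, hsZ⟩ := h.exists_pel hwn Nat.prime_two h.two
    exact lemmaK (l := 2) hr2 hr2 (fun y hy _ d hd => hcomm y hy d hd)
      (fun y hy _ d hd => hcomm y hy d hd) (fun y hy _ hyZ => (heq y hy hyZ).le)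
      (fun y hy _ hyZ => (heq y hy hyZ).le) hy hyr hyZ hs hsr hsZ (by rwa [hwn]) hu
      (by rwa [← pow_two]) hun
  · push Not at hex
    apply hns
    apply solvable_of_comm_index hcomm
    intro s hs hsd
    rw [hwn] at hsd
    by_contra h2
    exact hex s hs h2 hsd

/-- **Case (c).** -/
theorem SizesC.solvable {G : Type*} [Group G] [Finite G] {n k : ℕ} (h : SizesC G n k) :
    Group.IsSolvable G := by
  by_contra hns
  have : Fact (Nat.Prime 2) := ⟨Nat.prime_two⟩
  -- a real `r`-element
  obtain ⟨r, y, u, hr, hr2, hyr, hy1, huy⟩ : ∃ (r : ℕ) (y u : G), r.Prime ∧ r ≠ 2 ∧ PEl r y ∧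
      y ≠ 1 ∧ u * y * u⁻¹ = y⁻¹ := by
    by_contra hcon
    push Not at hcon
    apply hns
    apply Cfsg.Agent.H538.TwoClosed.solvable_of_no_real
    intro x t hx ht
    by_contra hx1
    have h1 : orderOf x ≠ 1 := by rwa [ne_eq, orderOf_eq_one_iff]
    obtain ⟨r, hr, hrd⟩ := Nat.exists_prime_and_dvd h1
    have : Fact r.Prime := ⟨hr⟩
    have hr2 : r ≠ 2 := by
      rintro rfl
      rw [← Nat.not_even_iff_odd] at hx
      exact hx (even_iff_two_dvd.mpr hrd)
    have h2 : orderOf (x ^ (orderOf x / r)) = r := by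
      rw [orderOf_pow_of_dvd (Nat.div_ne_zero_iff_of_dvd hrd |>.2
        ⟨(orderOf_pos x).ne', hr.ne_zero⟩) (Nat.div_dvd_of_dvd hrd)]
      exact Nat.div_div_self hrd (orderOf_pos x).ne'
    refine hcon r (x ^ (orderOf x / r)) t hr hr2 (pel_of_orderOf (i := 1) (by rw [h2, pow_one]))
      ?_ ?_
    · intro h3
      rw [h3, orderOf_one] at h2
      exact hr.one_lt.ne h2
    · rw [← conj_pow, ht, inv_pow]
  have : Fact r.Prime := ⟨hr⟩
  have hyy : y⁻¹ ≠ y := by
    intro h1
    apply hy1
    have h2 : y ^ 2 = 1 := by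
      rw [pow_two]
      nth_rewrite 1 [← h1]
      exact inv_mul_cancel y
    have h3 : y ∈ (⊥ : Subgroup G) := hyr.mem_of_pow_mem (m := 2)
      ((Nat.coprime_primes Nat.prime_two hr).mpr hr2.symm) (by rw [h2]; exact one_mem _)
    exact Subgroup.mem_bot.mp h3
  set D := centralizer ({y} : Set G) with hD
  have huD : u ∉ D := by
    rw [hD, mem_centralizer_singleton_iff]
    intro h1
    apply hyy
    rw [← huy, h1]; group
  have hu2 : u ^ 2 ∈ D := by
    rw [hD, mem_centralizer_singleton_iff]
    have h1 : u * (u * y * u⁻¹) * u⁻¹ = y := by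
      rw [huy]
      have : u * y⁻¹ * u⁻¹ = (u * y * u⁻¹)⁻¹ := by group
      rw [this, huy, inv_inv]
    calc u ^ 2 * y = (u * (u * y * u⁻¹) * u⁻¹) * u ^ 2 := by rw [pow_two]; group
      _ = y * u ^ 2 := by rw [h1]
  have hun : ∀ d ∈ D, u * d * u⁻¹ ∈ D := by
    intro d hd
    rw [hD, mem_centralizer_singleton_iff] at hd ⊢
    have h1 : u * d * u⁻¹ * y⁻¹ = y⁻¹ * (u * d * u⁻¹) := by
      rw [← huy]
      calc u * d * u⁻¹ * (u * y * u⁻¹) = u * (d * y) * u⁻¹ := by group
        _ = u * (y * d) * u⁻¹ := by rw [hd]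
        _ = u * y * u⁻¹ * (u * d * u⁻¹) := by group
    calc u * d * u⁻¹ * y = y * (y⁻¹ * (u * d * u⁻¹)) * y := by group
      _ = y * (u * d * u⁻¹ * y⁻¹) * y := by rw [h1]
      _ = y * (u * d * u⁻¹) := by group
  have hyZ : y ∉ center G := by
    intro hc
    apply huD
    rw [hD, mem_centralizer_singleton_iff]
    exact Subgroup.mem_center_iff.mp hc u
  have hnk : n < n * k := by nlinarith [h.n1, h.k1]
  rcases h.sz y hyZ with hys | hys
  · -- size `n`
    obtain ⟨h1, h2⟩ := h.part1 hr hr2 hyr hys
    exact h.abelian_case hns hys h1 h2 huD hu2 hun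
  · -- size `nk`
    have hDi : D.index = n * k := hys
    -- `y` commutes with no element of odd prime power order and class size `n`
    have hno : ∀ q : ℕ, q.Prime → q ≠ 2 → ∀ w ∈ D, PEl q w → w ∉ center G →
        (centralizer ({w} : Set G)).index = n * k := by
      intro q hq hq2 w hw hwq hwZ
      rcases h.sz w hwZ with h1 | h1
      · exfalso
        have h2 := (h.part1 hq hq2 hwq h1).2 y (mem_cz_comm hw) hyZ
        rw [← h2] at h1
        rw [h1] at hys
        omega
      · exact h1
    -- `r'`-elements of `D` are central in `D`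
    have step : ∀ x : G, x ∉ center G → centralizer ({x} : Set G) = D →
        ∀ a ∈ D, (orderOf a).Coprime (orderOf x) → D ≤ centralizer ({a} : Set G) := by
      intro x hxZ hxD a ha hax
      have h1 : a * x = x * a := by
        rw [← hxD, mem_centralizer_singleton_iff] at ha
        exact ha
      have h2 := cz_mul h1 hax
      have h3 : centralizer ({a * x} : Set G) ≤ D := by
        rw [h2, hxD]; exact inf_le_right
      have h4 : (centralizer ({a * x} : Set G)).index ≤ n * k := by
        by_cases hc : a * x ∈ center G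
        · rw [mem_center_iff_index.mp hc]; omega
        · rcases h.sz _ hc with h5 | h5
          · rw [h5]; exact hnk.le
          · exact h5.le
      have h5 := eq_of_le_of_index h3 (by rw [hDi]; exact h4)
      rw [← h5, h2]
      exact inf_le_left
    have hkk : ∀ x : G, x ∉ center G → D ≤ centralizer ({x} : Set G) →
        (centralizer ({x} : Set G)).index = n * k → centralizer ({x} : Set G) = D := by
      intro x hxZ hle hx
      exact (eq_of_le_of_index hle (by rw [hDi, hx])).symm
    have hrk : r ∣ k := by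
      apply h.hk r hr
      rw [← Subgroup.relIndex_top_right]
      exact dvd_of_pel hr (mem_top y) hyr hyZ
    by_cases hE : ∃ s : ℕ, s.Prime ∧ s ≠ 2 ∧ s ≠ r ∧ ∃ a ∈ D, PEl s a ∧ a ∉ center G
    · obtain ⟨s, hs, hs2, hsr, a, ha, has, haZ⟩ := hE
      have : Fact s.Prime := ⟨hs⟩
      have hL1 : ∀ t ∈ D, PEl s t → D ≤ centralizer ({t} : Set G) := by
        intro t ht hts
        exact step y hyZ rfl t ht (hts.coprime_right hs (hyr.coprime hr hs hsr.symm))
      have haD : centralizer ({a} : Set G) = D :=
        hkk a haZ (hL1 a ha has) (hno s hs hs2 a ha has haZ)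
      have hY1 : ∀ t ∈ D, PEl r t → D ≤ centralizer ({t} : Set G) := by
        intro t ht htr
        exact step a haZ haD t ht (htr.coprime_right hr (has.coprime hs hr hsr))
      refine lemmaK (r := r) (l := s) (D := D) hr2 hsr.symm ?_ ?_ ?_ ?_ (mem_cz_self y) hyr hyZ
        ha has haZ ?_ huD (by rwa [← pow_two]) hun
      · intro t ht htr d hd
        exact mem_centralizer_singleton_iff.mp (hY1 t ht htr hd)
      · intro t ht htr d hd
        exact mem_centralizer_singleton_iff.mp (hL1 t ht htr hd)
      · intro t ht htr htZ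
        exact (hkk t htZ (hY1 t ht htr) (hno r hr hr2 t ht htr htZ)).le
      · intro t ht htr htZ
        exact (hkk t htZ (hL1 t ht htr) (hno s hs hs2 t ht htr htZ)).le
      · rw [hDi]
        exact hrk.mul_left n
    · push Not at hE
      -- every noncentral `s`-element has size `n`
      have hsn : ∀ s : ℕ, s.Prime → s ≠ 2 → s ≠ r → ∀ x : G, PEl s x → x ∉ center G →
          (centralizer ({x} : Set G)).index = n := by
        intro s hs hs2 hsr x hxs hxZ
        rcases h.sz x hxZ with h1 | h1
        · exact h1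
        · exfalso
          have h2 := dvd_of_pel hs (mem_cz_self x) hxs hxZ
          have h3 := relIndex_mul _ (center_le_cz x)
          have h4 := relIndex_mul _ (center_le_cz y)
          rw [h1, ← h4, hys] at h3
          have h5 := Nat.eq_of_mul_eq_mul_right (by omega) h3
          rw [h5] at h2
          obtain ⟨a, ha, has, haZ⟩ := exists_pel_of_dvd hs h2
          exact haZ (hE s hs hs2 hsr a ha has)
      obtain ⟨s, hs, hs2, hsr, hsd⟩ := h.three r hr hr2
      obtain ⟨w, hws, hwZ⟩ := Ito.exists_pel hs hsd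
      have hwn := hsn s hs hs2 hsr w hws hwZ
      obtain ⟨h1, h2⟩ := h.part1 hs hs2 hws hwn
      by_cases hn2 : 2 ∣ n
      · obtain ⟨t, ht, ht2, htZ⟩ := h.exists_pel hwn Nat.prime_two h.two
        obtain ⟨u', hu1, hu2, hu3⟩ := exists_norm (p := 2) (D := centralizer ({w} : Set G))
          (fun y hy _ d hd => h1 y hy d hd) (fun y hy _ hyZ => (h2 y hy hyZ).le) ht ht2 htZ
          (by rwa [hwn])
        exact h.abelian_case hns hwn h1 h2 hu1 hu2 hu3
      · -- Sylow 2-subgroups are abelian
        apply hns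
        refine AbOdd.solvable (r := r) _ G rfl ⟨?_, ?_⟩
        · intro P hP a ha b hb
          obtain ⟨Q, hQ⟩ := hP.exists_le_sylow
          obtain ⟨T, hT⟩ := Cfsg.Agent.H531.TwoPrimes.exists_sylow_le (p := 2)
            (H := centralizer ({w} : Set G)) (by rwa [hwn])
          obtain ⟨g, hg⟩ := MulAction.exists_smul_eq G Q T
          have key : ∀ x ∈ (Q : Subgroup G), g * x * g⁻¹ ∈ centralizer ({w} : Set G) := by
            intro x hx
            apply hT
            rw [← hg]
            change g * x * g⁻¹ ∈ MulAut.conj g • (Q : Subgroup G)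
            rw [Subgroup.mem_pointwise_smul_iff_inv_smul_mem]
            simpa [MulAut.smul_def, mul_assoc] using hx
          have h3 := h1 _ (key a (hQ ha)) _ (key b (hQ hb))
          have h4 : g * (b * a) * g⁻¹ = g * (a * b) * g⁻¹ := by
            calc g * (b * a) * g⁻¹ = g * b * g⁻¹ * (g * a * g⁻¹) := by group
              _ = g * a * g⁻¹ * (g * b * g⁻¹) := h3
              _ = g * (a * b) * g⁻¹ := by group
          exact (mul_left_cancel (mul_right_cancel h4)).symm
        · rintro x ⟨s', j, hs', hs'2, hs'r, hx⟩ hd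
          by_cases hxZ : x ∈ center G
          · rw [mem_center_iff_index.mp hxZ] at hd
            omega
          · rw [hsn s' hs' hs'2 hs'r x (pel_of_orderOf hx) hxZ] at hd
            exact hn2 hd

end Cfsg.Agent.H32.Ito
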