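import Cfsg.Agent.H32.FourRed
import Cfsg.Agent.H32.Ito.Basic

/-!
# Centralizers and `p`-elements modulo the center (for S3922)

* `exists_pel_of_dvd` / `dvd_of_pel` : `p` divides `|D : Z(G)|` iff `D` has a noncentral `p`-element;
* `cz_mul` : `C(ab) = C(a) ⊓ C(b)` for commuting elements of coprime orders;
* `exists_norm` : an element normalizing `D`;
* `claimH` : a group all of whose `q'`-elements have class size `1` or `k` where `k` is divisible by
  two and by an odd prime `r ≠ q`: then the `q'`-elements are central.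
-/

set_option autoImplicit false

namespace Cfsg.Agent.H32.Ito

open Subgroup Cfsg.Agent.H524.ClassSize

section

variable {G : Type*} [Group G]

theorem center_le_cz (x : G) : center G ≤ centralizer ({x} : Set G) := by
  intro z hz
  rw [mem_centralizer_singleton_iff]
  exact (Subgroup.mem_center_iff.mp hz x).symm

theorem mem_cz_self (x : G) : x ∈ centralizer ({x} : Set G) := by
  rw [mem_centralizer_singleton_iff]

theorem mem_cz_comm {x y : G} (h : x ∈ centralizer ({y} : Set G)) :
    y ∈ centralizer ({x} : Set G) := by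
  rw [mem_centralizer_singleton_iff] at h ⊢
  exact h.symm

theorem mem_center_iff_index {x : G} :
    x ∈ center G ↔ (centralizer ({x} : Set G)).index = 1 := by
  rw [Subgroup.index_eq_one]
  constructor
  · intro h
    rw [eq_top_iff]
    intro g _
    rw [mem_centralizer_singleton_iff]
    exact Subgroup.mem_center_iff.mp h g
  · intro h
    rw [Subgroup.mem_center_iff]
    intro g
    have : g ∈ centralizer ({x} : Set G) := by rw [h]; exact mem_top g
    exact mem_centralizer_singleton_iff.mp this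

variable [Finite G]

theorem eq_of_le_of_index {A B : Subgroup G} (h : A ≤ B) (hi : A.index ≤ B.index) : A = B := by
  apply le_antisymm h
  rw [← Subgroup.relIndex_eq_one]
  have h1 := Subgroup.relIndex_mul_index h
  have h2 : 0 < B.index := Nat.pos_of_ne_zero Subgroup.index_ne_zero_of_finite
  have h3 : 0 < A.relIndex B := Nat.pos_of_ne_zero Subgroup.index_ne_zero_of_finite
  by_contra hne
  have h4 : 2 ≤ A.relIndex B := by omega
  nlinarith

theorem index_le_of_le {A B : Subgroup G} (h : A ≤ B) : B.index ≤ A.index :=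
  Nat.le_of_dvd (Nat.pos_of_ne_zero Subgroup.index_ne_zero_of_finite) (Subgroup.index_dvd_of_le h)

theorem exists_pel_of_dvd {p : ℕ} (hp : p.Prime) {D : Subgroup G}
    (h : p ∣ (center G).relIndex D) : ∃ x ∈ D, PEl p x ∧ x ∉ center G := by
  have : Fact p.Prime := ⟨hp⟩
  set K := (center G).subgroupOf D with hK
  have h1 : p ∣ Nat.card (D ⧸ K) := h
  obtain ⟨x, hx⟩ := exists_prime_orderOf_dvd_card' p h1
  obtain ⟨y, hy, j, hj⟩ := FourRed.exists_lift (QuotientGroup.mk' K)
    (QuotientGroup.mk'_surjective K) hp (k := 1) (by rw [pow_one]; exact hx)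
  refine ⟨y, y.2, ⟨j, ?_⟩, ?_⟩
  · have h2 := pow_orderOf_eq_one y
    rw [hj] at h2
    exact congrArg Subtype.val h2
  · intro hc
    have h2 : y ∈ K := Subgroup.mem_subgroupOf.mpr hc
    rw [← QuotientGroup.eq_one_iff] at h2
    have h3 : x = 1 := by rw [← hy]; exact h2
    rw [h3, orderOf_one] at hx
    exact hp.one_lt.ne hx

theorem dvd_of_pel {p : ℕ} (hp : p.Prime) {D : Subgroup G} {x : G} (hx : x ∈ D) (hxp : PEl p x)
    (hxZ : x ∉ center G) : p ∣ (center G).relIndex D := by
  have : Fact p.Prime := ⟨hp⟩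
  set K := (center G).subgroupOf D with hK
  change p ∣ Nat.card (D ⧸ K)
  set y : D ⧸ K := QuotientGroup.mk' K ⟨x, hx⟩ with hy
  have h1 : y ≠ 1 := by
    intro h
    rw [hy, QuotientGroup.mk'_apply, QuotientGroup.eq_one_iff] at h
    exact hxZ (Subgroup.mem_subgroupOf.mp h)
  have hy2 : PEl p y := by
    obtain ⟨i, hi⟩ := hxp
    refine ⟨i, ?_⟩
    rw [hy, ← map_pow]
    have : (⟨x, hx⟩ : D) ^ p ^ i = 1 := Subtype.ext hi
    rw [this, map_one]
  obtain ⟨i, hi⟩ := hy2.exists_orderOf
  have h2 : i ≠ 0 := by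
    rintro rfl
    rw [pow_zero, orderOf_eq_one_iff] at hi
    exact h1 hi
  have h3 : p ∣ orderOf y := by rw [hi]; exact dvd_pow_self p h2
  exact h3.trans (orderOf_dvd_natCard y)

theorem relIndex_mul (D : Subgroup G) (h : center G ≤ D) :
    (center G).relIndex D * D.index = (center G).index := Subgroup.relIndex_mul_index h

theorem exists_pel {p : ℕ} (hp : p.Prime) (h : p ∣ (center G).index) :
    ∃ x : G, PEl p x ∧ x ∉ center G := by
  have h1 : p ∣ (center G).relIndex ⊤ := by rwa [Subgroup.relIndex_top_right]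
  obtain ⟨x, -, h2⟩ := exists_pel_of_dvd hp h1
  exact ⟨x, h2⟩

omit [Finite G] in
/-- `C(ab) = C(a) ⊓ C(b)`. -/
theorem cz_mul {a b : G} (hab : a * b = b * a) (hc : (orderOf a).Coprime (orderOf b)) :
    centralizer ({a * b} : Set G) = centralizer {a} ⊓ centralizer {b} := by
  have hcomm : Commute a b := hab
  apply le_antisymm
  · intro g hg
    have hg1 : a * b ∈ centralizer ({g} : Set G) := mem_cz_comm hg
    have key : ∀ n : ℕ, a ^ n * b ^ n ∈ centralizer ({g} : Set G) := by
      intro n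
      rw [← hcomm.mul_pow]
      exact Subgroup.pow_mem _ hg1 n
    constructor
    · apply mem_cz_comm
      refine mem_of_pow_mem hc ?_ ?_
      · rw [pow_orderOf_eq_one]; exact one_mem _
      · have := key (orderOf b)
        rwa [pow_orderOf_eq_one, mul_one] at this
    · apply mem_cz_comm
      refine mem_of_pow_mem hc ?_ ?_
      · have := key (orderOf a)
        rwa [pow_orderOf_eq_one, one_mul] at this
      · rw [pow_orderOf_eq_one]; exact one_mem _
  · rintro g ⟨h1, h2⟩
    exact mem_cz_comm (Subgroup.mul_mem _ (mem_cz_comm h1) (mem_cz_comm h2))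

omit [Finite G] in
theorem PEl.coprime {p q : ℕ} (hp : p.Prime) (hq : q.Prime) (h : p ≠ q) {x : G} (hx : PEl p x) :
    (orderOf x).Coprime q := by
  have : Fact p.Prime := ⟨hp⟩
  obtain ⟨i, hi⟩ := hx.exists_orderOf
  rw [hi]
  exact Nat.Coprime.pow_left _ ((Nat.coprime_primes hp hq).mpr h)

omit [Finite G] in
theorem PEl.coprime_right {p : ℕ} (hp : p.Prime) {x y : G} (hx : PEl p x)
    (hy : (orderOf y).Coprime p) : (orderOf x).Coprime (orderOf y) := by
  have : Fact p.Prime := ⟨hp⟩
  obtain ⟨i, hi⟩ := hx.exists_orderOf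
  rw [hi]
  exact (hy.pow_right i).symm

omit [Finite G] in
theorem coprime_mul {q : ℕ} {a b : G} (hab : a * b = b * a) (ha : (orderOf a).Coprime q)
    (hb : (orderOf b).Coprime q) : (orderOf (a * b)).Coprime q :=
  Nat.Coprime.coprime_dvd_left ((show Commute a b from hab).orderOf_mul_dvd_mul_orderOf)
    (Nat.Coprime.mul_left ha hb)

/-- An element normalizing `D`. -/
theorem exists_norm {p : ℕ} [Fact p.Prime] {D : Subgroup G}
    (hY : ∀ y ∈ D, PEl p y → ∀ d ∈ D, d * y = y * d)
    (hYc : ∀ y ∈ D, PEl p y → y ∉ center G → centralizer {y} ≤ D)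
    {y₀ : G} (hy0 : y₀ ∈ D) (hy0r : PEl p y₀) (hy0Z : y₀ ∉ center G)
    (hrD : p ∣ D.index) : ∃ u : G, u ∉ D ∧ u ^ p ∈ D ∧ ∀ d ∈ D, u * d * u⁻¹ ∈ D := by
  classical
  let Y : Subgroup G :=
    { carrier := {y | y ∈ D ∧ PEl p y}
      one_mem' := ⟨D.one_mem, PEl.one p⟩
      mul_mem' := fun {a b} ha hb => ⟨D.mul_mem ha.1 hb.1, ha.2.mul hb.2 (hY b hb.1 hb.2 a ha.1)⟩
      inv_mem' := fun {a} ha => ⟨D.inv_mem ha.1, ha.2.inv⟩ }
  have hYp : IsPGroup p Y := by
    intro y
    obtain ⟨i, hi⟩ := y.2.2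
    exact ⟨i, Subtype.ext hi⟩
  obtain ⟨P, hP⟩ := hYp.exists_le_sylow
  have hYne : ¬ (P : Subgroup G) ≤ Y := by
    intro hle
    have h1 : D.index ∣ (P : Subgroup G).index :=
      Subgroup.index_dvd_of_le (hle.trans fun y hy => hy.1)
    exact P.not_dvd_index (hrD.trans h1)
  obtain ⟨g, hgP, hgY, hgN⟩ : ∃ g : G, g ∈ (P : Subgroup G) ∧ g ∉ Y ∧
      ∀ y ∈ Y, g * y * g⁻¹ ∈ Y := by
    have hnil : Group.IsNilpotent P := P.2.isNilpotent
    have hnc : NormalizerCondition P := Group.normalizerCondition_of_isNilpotent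
    have hlt : Y.subgroupOf P < ⊤ := by
      rw [lt_top_iff_ne_top]
      intro h
      rw [Subgroup.subgroupOf_eq_top] at h
      exact hYne h
    obtain ⟨g, hgN, hgY⟩ := Set.exists_of_ssubset (hnc _ hlt)
    refine ⟨g, g.2, fun h => hgY (Subgroup.mem_subgroupOf.mpr h), ?_⟩
    intro y
    have hgN' : g ∈ normalizer ((Y.subgroupOf P : Subgroup P) : Set P) := hgN
    rw [Subgroup.mem_normalizer_iff] at hgN'
    intro hy
    exact Subgroup.mem_subgroupOf.mp ((hgN' ⟨y, hP hy⟩).mp (Subgroup.mem_subgroupOf.mpr hy))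
  have hgr : PEl p g := IsPGroup.pel P.2 hgP
  have hgD : g ∉ D := fun h => hgY ⟨h, hgr⟩
  have hgnD : ∀ d ∈ D, g * d * g⁻¹ ∈ D := by
    intro d hd
    have h1 : g * y₀ * g⁻¹ ∈ Y := hgN _ ⟨hy0, hy0r⟩
    have h2 : g * y₀ * g⁻¹ ∉ center G := by
      intro h
      apply hy0Z
      have := (inferInstance : (center G).Normal).conj_mem _ h g⁻¹
      have h3 : g⁻¹ * (g * y₀ * g⁻¹) * g⁻¹⁻¹ = y₀ := by group
      rwa [h3] at this
    apply hYc _ h1.1 h1.2 h2
    rw [mem_centralizer_singleton_iff]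
    have h3 : d * y₀ = y₀ * d := hY y₀ hy0 hy0r d hd
    calc g * d * g⁻¹ * (g * y₀ * g⁻¹) = g * (d * y₀) * g⁻¹ := by group
      _ = g * (y₀ * d) * g⁻¹ := by rw [h3]
      _ = g * y₀ * g⁻¹ * (g * d * g⁻¹) := by group
  have hpow : ∀ n : ℕ, ∀ d ∈ D, g ^ n * d * (g ^ n)⁻¹ ∈ D := by
    intro n
    induction n with
    | zero => intro d hd; simpa using hd
    | succ n ih =>
      intro d hd
      have h1 := hgnD _ (ih d hd)
      have h2 : g * (g ^ n * d * (g ^ n)⁻¹) * g⁻¹ = g ^ (n + 1) * d * (g ^ (n + 1))⁻¹ := by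
        rw [pow_succ']; group
      rwa [h2] at h1
  have hex : ∃ i : ℕ, g ^ (p ^ i) ∈ D := by
    obtain ⟨i, hi⟩ := hgr
    exact ⟨i, by rw [hi]; exact D.one_mem⟩
  have hfind := Nat.find_spec hex
  rcases hn : Nat.find hex with _ | i
  · rw [hn, pow_zero, pow_one] at hfind
    exact absurd hfind hgD
  · refine ⟨g ^ (p ^ i), Nat.find_min hex (by omega), ?_, hpow _⟩
    rw [hn] at hfind
    rwa [← pow_mul, ← pow_succ]

/-- **Claim H.** -/
theorem claimH {q k r : ℕ} (hq : q.Prime) (hq2 : q ≠ 2) (hr : r.Prime) (hr2 : r ≠ 2)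
    (hrq : r ≠ q) (h2k : 2 ∣ k) (hrk : r ∣ k)
    (hsz : ∀ y : G, (orderOf y).Coprime q → (centralizer ({y} : Set G)).index = 1 ∨
      (centralizer ({y} : Set G)).index = k) :
    ∀ y : G, (orderOf y).Coprime q → y ∈ center G := by
  have : Fact q.Prime := ⟨hq⟩
  have : Fact r.Prime := ⟨hr⟩
  have : Fact (Nat.Prime 2) := ⟨Nat.prime_two⟩
  by_contra hcon
  push Not at hcon
  obtain ⟨y₁, hy1, hy1Z⟩ := hcon
  have hk : ∀ y : G, (orderOf y).Coprime q → y ∉ center G →
      (centralizer ({y} : Set G)).index = k := by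
    intro y hy hyZ
    rcases hsz y hy with h | h
    · exact absurd (mem_center_iff_index.mpr h) hyZ
    · exact h
  have hki : ∀ y : G, (orderOf y).Coprime q → y ∉ center G →
      (center G).relIndex (centralizer ({y} : Set G)) * k = (center G).index := by
    intro y hy hyZ
    rw [← hk y hy hyZ]
    exact relIndex_mul _ (center_le_cz y)
  have hkd : k ∣ (center G).index := Dvd.intro_left _ (hki y₁ hy1 hy1Z)
  have hk0 : 0 < k := by
    rw [← hk y₁ hy1 hy1Z]
    exact Nat.pos_of_ne_zero Subgroup.index_ne_zero_of_finite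
  have hk1 : k ≠ 1 := by rintro rfl; omega
  obtain ⟨y, hyr, hyZ⟩ := exists_pel hr (hrk.trans hkd)
  have hyq : (orderOf y).Coprime q := hyr.coprime hr hq hrq
  set D := centralizer ({y} : Set G) with hD
  have hDi : D.index = k := hk y hyq hyZ
  -- if `a ∈ D` is a noncentral `q'`-element commuting with .. then `D ≤ C(a)`
  have step : ∀ x : G, (orderOf x).Coprime q → x ∉ center G → centralizer ({x} : Set G) = D →
      ∀ a ∈ D, (orderOf a).Coprime q → (orderOf a).Coprime (orderOf x) →
      D ≤ centralizer ({a} : Set G) := by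
    intro x hx hxZ hxD a ha haq hax
    have h1 : a * x = x * a := by
      rw [← hxD, mem_centralizer_singleton_iff] at ha
      exact ha
    have h2 := cz_mul h1 hax
    have h3 : centralizer ({a * x} : Set G) ≤ D := by
      rw [h2, hxD]; exact inf_le_right
    have h4 : (centralizer ({a * x} : Set G)).index = k := by
      rcases hsz (a * x) (coprime_mul h1 haq hx) with h | h
      · have h5 := index_le_of_le h3
        rw [h, hDi] at h5
        omega
      · exact h
    have h5 := eq_of_le_of_index h3 (by rw [h4, hDi])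
    rw [← h5, h2]
    exact inf_le_left
  have hcop2q : Nat.Coprime 2 q := (Nat.coprime_primes Nat.prime_two hq).mpr hq2.symm
  -- a noncentral 2-element of `D`
  obtain ⟨t₀, ht0, ht02, ht0Z⟩ : ∃ t ∈ D, PEl 2 t ∧ t ∉ center G := by
    apply exists_pel_of_dvd Nat.prime_two
    obtain ⟨t', ht'2, ht'Z⟩ := exists_pel Nat.prime_two (h2k.trans hkd)
    have h1 := dvd_of_pel Nat.prime_two (mem_cz_self t') ht'2 ht'Z
    have h2 := hki t' (ht'2.coprime Nat.prime_two hq hq2.symm) ht'Z
    have h3 := hki y hyq hyZ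
    rw [← h3] at h2
    have h4 := Nat.eq_of_mul_eq_mul_right hk0 h2
    rwa [h4] at h1
  have ht0q : (orderOf t₀).Coprime q := ht02.coprime Nat.prime_two hq hq2.symm
  have hL1 : ∀ t ∈ D, PEl 2 t → D ≤ centralizer ({t} : Set G) := by
    intro t ht ht2
    exact step y hyq hyZ rfl t ht (ht2.coprime Nat.prime_two hq hq2.symm)
      (ht2.coprime_right Nat.prime_two (hyr.coprime hr Nat.prime_two hr2))
  have ht0D : centralizer ({t₀} : Set G) = D := by
    refine (eq_of_le_of_index (hL1 t₀ ht0 ht02) ?_).symm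
    rw [hDi, hk t₀ ht0q ht0Z]
  have hY1 : ∀ t ∈ D, PEl r t → D ≤ centralizer ({t} : Set G) := by
    intro t ht htr
    exact step t₀ ht0q ht0Z ht0D t ht (htr.coprime hr hq hrq)
      (htr.coprime_right hr (ht02.coprime Nat.prime_two hr hr2.symm))
  have hc : ∀ t : G, (orderOf t).Coprime q → t ∉ center G → D ≤ centralizer ({t} : Set G) →
      centralizer ({t} : Set G) ≤ D := by
    intro t htq htZ hle
    refine (eq_of_le_of_index hle ?_).ge
    rw [hDi, hk t htq htZ]
  have hY : ∀ t ∈ D, PEl r t → ∀ d ∈ D, d * t = t * d := by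
    intro t ht htr d hd
    exact mem_centralizer_singleton_iff.mp (hY1 t ht htr hd)
  have hL : ∀ t ∈ D, PEl 2 t → ∀ d ∈ D, d * t = t * d := by
    intro t ht htr d hd
    exact mem_centralizer_singleton_iff.mp (hL1 t ht htr hd)
  have hYc : ∀ t ∈ D, PEl r t → t ∉ center G → centralizer {t} ≤ D := by
    intro t ht htr htZ
    exact hc t (htr.coprime hr hq hrq) htZ (hY1 t ht htr)
  have hLc : ∀ t ∈ D, PEl 2 t → t ∉ center G → centralizer {t} ≤ D := by
    intro t ht htr htZ
    exact hc t (htr.coprime Nat.prime_two hq hq2.symm) htZ (hL1 t ht htr)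
  obtain ⟨u, hu1, hu2, hu3⟩ := exists_norm hL hLc ht0 ht02 ht0Z (by rw [hDi]; exact h2k)
  exact lemmaK hr2 hr2 hY hL hYc hLc (mem_cz_self y) hyr hyZ ht0 ht02 ht0Z
    (by rw [hDi]; exact hrk) hu1 (by rwa [← pow_two]) hu3

end

end Cfsg.Agent.H32.Ito
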