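import Cfsg.Agent.H32.Ito.ClaimH
import Cfsg.Agent.S0144

/-!
# Groups in which no noncentral centralizer contains another one properly (for S3922)

* `FGrp.nilpotent_cz` : the centralizers of the noncentral elements are nilpotent;
* `FGrp.partition` : the centers of these centralizers give a partition of `G / Z(G)`;
* `solvable_centralizer_mk` : the centralizers in `G / Z(G)` of the nontrivial elements are solvable;
* `relIndex_dvd_card`, `orderOf_dvd_relIndex` : the numbers `|C(x) : Z(G)|`.
-/

set_option autoImplicit false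

namespace Cfsg.Agent.H32.Ito

open Subgroup Cfsg.Agent.H524.ClassSize

/-- No inclusions between the centralizers of noncentral elements. -/
def FGrp (G : Type*) [Group G] : Prop :=
  ∀ x y : G, x ∉ center G → y ∉ center G → centralizer ({x} : Set G) ≤ centralizer {y} →
    centralizer ({x} : Set G) = centralizer {y}

variable {G : Type*} [Group G] [Finite G]

/-- A noncentral element has a noncentral primary part. -/
theorem exists_primary {x : G} (hx : x ∉ center G) : ∃ (p : ℕ) (y : G), p.Prime ∧ PEl p y ∧
    y ∉ center G ∧ y ∈ zpowers x := by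
  -- induction on the order
  have main : ∀ N : ℕ, ∀ x : G, orderOf x = N → x ∉ center G → ∃ (p : ℕ) (y : G), p.Prime ∧
      PEl p y ∧ y ∉ center G ∧ y ∈ zpowers x := by
    intro N
    induction N using Nat.strong_induction_on with
    | _ N ih =>
      intro x hN hx
      have h1 : orderOf x ≠ 1 := by
        rw [ne_eq, orderOf_eq_one_iff]
        rintro rfl
        exact hx (one_mem _)
      obtain ⟨p, hp, hpd⟩ := Nat.exists_prime_and_dvd h1
      have : Fact p.Prime := ⟨hp⟩
      obtain ⟨a, b, rfl, hc, ⟨i, hi⟩, hb, haz, hbz⟩ := exists_decomp p x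
      by_cases ha : a ∈ center G
      · have hb1 : b ∉ center G := fun h => hx (mul_mem ha h)
        have h2 : orderOf b ∣ orderOf (a * b) := orderOf_dvd_of_mem_zpowers hbz
        have h3 : orderOf b < N := by
          rw [← hN]
          refine lt_of_le_of_ne (Nat.le_of_dvd (orderOf_pos _) h2) ?_
          intro h4
          rw [← h4] at hpd
          exact hp.one_lt.ne' (Nat.eq_one_of_dvd_coprimes hb hpd dvd_rfl)
        obtain ⟨q, y, hq, hy, hyZ, hyb⟩ := ih _ h3 b rfl hb1
        refine ⟨q, y, hq, hy, hyZ, ?_⟩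
        have h5 : zpowers b ≤ zpowers (a * b) := by rwa [zpowers_le]
        exact h5 hyb
      · exact ⟨p, a, hp, pel_of_orderOf hi, ha, haz⟩
  exact main _ x rfl hx

omit [Finite G] in
theorem cz_le_of_mem_zpowers {x y : G} (h : y ∈ zpowers x) :
    centralizer ({x} : Set G) ≤ centralizer {y} := by
  intro g hg
  apply mem_cz_comm
  have h1 : zpowers x ≤ centralizer ({g} : Set G) := by
    rw [zpowers_le]
    exact mem_cz_comm hg
  exact h1 h

/-- In an F-group the `p'`-elements of the centralizer of a noncentral `p`-element are central in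
this centralizer. -/
theorem FGrp.central (h : FGrp G) {p : ℕ} (hp : p.Prime) {x : G} (hx : PEl p x)
    (hxZ : x ∉ center G) {y : G} (hy : y ∈ centralizer ({x} : Set G))
    (hyp : (orderOf y).Coprime p) : centralizer ({x} : Set G) ≤ centralizer {y} := by
  have h1 : x * y = y * x := (mem_centralizer_singleton_iff.mp hy).symm
  have h2 := cz_mul h1 (hx.coprime_right hp hyp)
  have h3 : centralizer ({x * y} : Set G) ≤ centralizer {x} := by rw [h2]; exact inf_le_left
  have h4 : x * y ∉ center G := by
    intro hc
    apply hxZ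
    have h5 : centralizer ({x * y} : Set G) = ⊤ := by
      rw [← Subgroup.index_eq_one, ← mem_center_iff_index]
      exact hc
    rw [h5, top_le_iff, ← Subgroup.index_eq_one, ← mem_center_iff_index] at h3
    exact h3
  have h5 := h _ _ h4 hxZ h3
  rw [← h5, h2]
  exact inf_le_right

/-- In an F-group the centralizers of noncentral elements are nilpotent. -/
theorem FGrp.nilpotent_cz (h : FGrp G) {x : G} (hxZ : x ∉ center G) :
    Group.IsNilpotent (centralizer ({x} : Set G)) := by
  obtain ⟨p, y, hp, hy, hyZ, hyx⟩ := exists_primary hxZ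
  have : Fact p.Prime := ⟨hp⟩
  have h1 := h _ _ hxZ hyZ (cz_le_of_mem_zpowers hyx)
  rw [h1]
  set D := centralizer ({y} : Set G) with hD
  -- `D / Z(D)` is a `p`-group
  have h2 : IsPGroup p (D ⧸ center D) := by
    intro d
    induction d using QuotientGroup.induction_on with
    | H d =>
      obtain ⟨a, b, hab, hc, ⟨i, hi⟩, hb, haz, hbz⟩ := exists_decomp p d
      have hbc : b ∈ center D := by
        rw [Subgroup.mem_center_iff]
        intro e
        have h3 := h.central hp hy hyZ b.2 (by rwa [Subgroup.orderOf_coe]) e.2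
        apply Subtype.ext
        exact mem_centralizer_singleton_iff.mp h3
      refine ⟨i, ?_⟩
      rw [← hab, QuotientGroup.mk_mul, (QuotientGroup.eq_one_iff b).mpr hbc, mul_one,
        ← QuotientGroup.mk_pow, ← hi, pow_orderOf_eq_one]
      rfl
  have h3 : Group.IsNilpotent (D ⧸ center D) := h2.isNilpotent
  exact Group.of_quotient_center_nilpotent h3

omit [Finite G] in
theorem mem_centralizer_cz {x g : G} (h : g ∈ centralizer ((centralizer ({x} : Set G) : Subgroup G) : Set G)) :
    centralizer ({x} : Set G) ≤ centralizer {g} := by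
  intro d hd
  rw [mem_centralizer_singleton_iff]
  exact (mem_centralizer_iff.mp h) d hd

/-- The partition. -/
def part (G : Type*) [Group G] : Set (Subgroup (G ⧸ center G)) :=
  {A | ∃ x : G, x ∉ center G ∧ A =
    (centralizer ((centralizer ({x} : Set G) : Subgroup G) : Set G)).map
      (QuotientGroup.mk' (center G))}

omit [Finite G] in
theorem FGrp.mem_iff (h : FGrp G) {x g : G} (hx : x ∉ center G) (hg : g ∉ center G) :
    (g : G ⧸ center G) ∈ (centralizer ((centralizer ({x} : Set G) : Subgroup G) : Set G)).map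
      (QuotientGroup.mk' (center G)) ↔ centralizer ({x} : Set G) = centralizer {g} := by
  constructor
  · rintro ⟨a, ha, hag⟩
    have h1 : g ∈ centralizer ((centralizer ({x} : Set G) : Subgroup G) : Set G) := by
      rw [QuotientGroup.mk'_apply, QuotientGroup.eq] at hag
      have h2 : a⁻¹ * g ∈ centralizer ((centralizer ({x} : Set G) : Subgroup G) : Set G) :=
        Subgroup.center_le_centralizer _ hag
      have h3 := mul_mem ha h2
      rwa [mul_inv_cancel_left] at h3
    exact h x g hx hg (mem_centralizer_cz h1)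
  · intro h1
    refine ⟨g, ?_, rfl⟩
    change g ∈ centralizer _
    rw [mem_centralizer_iff]
    intro d hd
    rw [h1] at hd
    exact mem_centralizer_singleton_iff.mp hd

omit [Finite G] in
theorem FGrp.partition (h : FGrp G) (hna : ∃ x : G, x ∉ center G) :
    (∃ H ∈ part G, ∃ K ∈ part G, H ≠ K) ∧ (∀ H ∈ part G, H ≠ ⊥) ∧
    (∀ g : G ⧸ center G, g ≠ 1 → ∃! H : Subgroup (G ⧸ center G), H ∈ part G ∧ g ∈ H) := by
  have hself : ∀ x : G, x ∉ center G → (x : G ⧸ center G) ∈
      (centralizer ((centralizer ({x} : Set G) : Subgroup G) : Set G)).map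
      (QuotientGroup.mk' (center G)) := fun x hx => (h.mem_iff hx hx).mpr rfl
  refine ⟨?_, ?_, ?_⟩
  · obtain ⟨x, hx⟩ := hna
    obtain ⟨y, hy⟩ : ∃ y : G, y * x ≠ x * y := by
      by_contra hcon
      push Not at hcon
      exact hx (Subgroup.mem_center_iff.mpr hcon)
    have hyZ : y ∉ center G := fun hc => hy (Subgroup.mem_center_iff.mp hc x).symm
    refine ⟨_, ⟨x, hx, rfl⟩, _, ⟨y, hyZ, rfl⟩, ?_⟩
    intro heq
    have h1 := hself x hx
    rw [heq, h.mem_iff hyZ hx] at h1
    apply hy
    have h2 := mem_cz_self y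
    rw [h1] at h2
    exact mem_centralizer_singleton_iff.mp h2
  · rintro H ⟨x, hx, rfl⟩ hb
    have h1 := hself x hx
    rw [hb, Subgroup.mem_bot, QuotientGroup.eq_one_iff] at h1
    exact hx h1
  · intro q hq
    obtain ⟨g, rfl⟩ := QuotientGroup.mk_surjective q
    have hg : g ∉ center G := fun hc => hq ((QuotientGroup.eq_one_iff g).mpr hc)
    refine ⟨_, ⟨⟨g, hg, rfl⟩, hself g hg⟩, ?_⟩
    rintro K ⟨⟨x, hx, rfl⟩, hgK⟩
    rw [h.mem_iff hx hg] at hgK
    rw [hgK]

omit [Finite G] in
/-- The centralizer of a nontrivial element of `G / Z(G)` is solvable if the centralizer in `G` is. -/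
theorem solvable_centralizer_mk {x : G} (h : Group.IsSolvable (centralizer ({x} : Set G))) :
    Group.IsSolvable (centralizer ({(x : G ⧸ center G)} : Set (G ⧸ center G))) := by
  set C : Subgroup G := (centralizer ({(x : G ⧸ center G)} : Set (G ⧸ center G))).comap
    (QuotientGroup.mk' (center G)) with hC
  have hmem : ∀ g : G, g ∈ C ↔ g * x * g⁻¹ * x⁻¹ ∈ center G := by
    intro g
    rw [hC, mem_comap, mem_centralizer_singleton_iff, QuotientGroup.mk'_apply,
      ← QuotientGroup.mk_mul, ← QuotientGroup.mk_mul, eq_comm, QuotientGroup.eq]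
    have h1 : (x * g)⁻¹ * (g * x) = (x * g)⁻¹ * (g * x * g⁻¹ * x⁻¹) * (x * g) := by group
    rw [h1]
    constructor
    · intro h2
      have := (inferInstance : (center G).Normal).conj_mem _ h2 (x * g)
      have h3 : x * g * ((x * g)⁻¹ * (g * x * g⁻¹ * x⁻¹) * (x * g)) * (x * g)⁻¹ =
        g * x * g⁻¹ * x⁻¹ := by group
      rwa [h3] at this
    · intro h2
      have := (inferInstance : (center G).Normal).conj_mem _ h2 (x * g)⁻¹
      rwa [inv_inv] at this
  -- the homomorphism `g ↦ [g, x]`
  let f : C →* center G :=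
    { toFun := fun g => ⟨g * x * (g : G)⁻¹ * x⁻¹, (hmem g).mp g.2⟩
      map_one' := by
        apply Subtype.ext
        simp
      map_mul' := by
        intro a b
        apply Subtype.ext
        have hb := (hmem b).mp b.2
        have h2 := Subgroup.mem_center_iff.mp hb (a : G)
        change ((a : G) * b) * x * ((a : G) * b)⁻¹ * x⁻¹ =
          (a * x * (a : G)⁻¹ * x⁻¹) * (b * x * (b : G)⁻¹ * x⁻¹)
        calc ((a : G) * b) * x * ((a : G) * b)⁻¹ * x⁻¹ =
            (a * (b * x * (b : G)⁻¹ * x⁻¹)) * x * (a : G)⁻¹ * x⁻¹ := by group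
          _ = ((b * x * (b : G)⁻¹ * x⁻¹) * a) * x * (a : G)⁻¹ * x⁻¹ := by rw [h2]
          _ = (b * x * (b : G)⁻¹ * x⁻¹) * (a * x * (a : G)⁻¹ * x⁻¹) := by group
          _ = (a * x * (a : G)⁻¹ * x⁻¹) * (b * x * (b : G)⁻¹ * x⁻¹) :=
            (Subgroup.mem_center_iff.mp hb _).symm }
  have hker : f.ker = (centralizer ({x} : Set G)).subgroupOf C := by
    ext g
    rw [MonoidHom.mem_ker, mem_subgroupOf, mem_centralizer_singleton_iff, Subtype.ext_iff]
    change (g : G) * x * (g : G)⁻¹ * x⁻¹ = 1 ↔ _
    constructor
    · intro h1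
      calc (g : G) * x = ((g : G) * x * (g : G)⁻¹ * x⁻¹) * (x * g) := by group
        _ = x * g := by rw [h1, one_mul]
    · intro h1
      rw [h1]; group
  have hCs : Group.IsSolvable C := by
    have h1 : Group.IsSolvable f.ker := by
      rw [hker]
      let g : (centralizer ({x} : Set G)).subgroupOf C →* centralizer ({x} : Set G) :=
        { toFun := fun a => ⟨(a : C), a.2⟩
          map_one' := rfl
          map_mul' := fun _ _ => rfl }
      have hg : Function.Injective g := by
        intro a b hab
        apply Subtype.ext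
        apply Subtype.ext
        exact congrArg (fun z : centralizer ({x} : Set G) => (z : G)) hab
      exact Group.isSolvable_of_isSolvable_injective hg
    have h2 : Group.IsSolvable (center G) :=
      Group.isSolvable_of_comm fun a b => Subtype.ext (Subgroup.mem_center_iff.mp b.2 a)
    exact Group.isSolvable_of_ker_le_range f.ker.subtype f (by simp)
  -- `C` maps onto the centralizer
  let g : C →* centralizer ({(x : G ⧸ center G)} : Set (G ⧸ center G)) :=
    { toFun := fun a => ⟨((a : G) : G ⧸ center G), a.2⟩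
      map_one' := rfl
      map_mul' := fun _ _ => rfl }
  have hg : Function.Surjective g := by
    rintro ⟨q, hq⟩
    obtain ⟨a, rfl⟩ := QuotientGroup.mk_surjective q
    exact ⟨⟨a, hq⟩, rfl⟩
  exact Group.isSolvable_of_surjective hg

/-- `|C(x) : Z(G)|` divides the order of the centralizer in `G / Z(G)`. -/
theorem relIndex_dvd_card (x : G) : (center G).relIndex (centralizer ({x} : Set G)) ∣
    Nat.card (centralizer ({(x : G ⧸ center G)} : Set (G ⧸ center G))) := by
  have h1 : ((centralizer ({x} : Set G)).map (QuotientGroup.mk' (center G))) ≤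
      centralizer ({(x : G ⧸ center G)} : Set (G ⧸ center G)) := by
    rintro _ ⟨g, hg, rfl⟩
    have hg' := mem_centralizer_singleton_iff.mp hg
    rw [mem_centralizer_singleton_iff, QuotientGroup.mk'_apply, ← QuotientGroup.mk_mul, hg',
      QuotientGroup.mk_mul]
  have h2 := Subgroup.card_dvd_of_le h1
  have h3 : Nat.card ((centralizer ({x} : Set G)).map (QuotientGroup.mk' (center G))) =
      (center G).relIndex (centralizer ({x} : Set G)) := by
    rw [← Subgroup.relIndex_ker, QuotientGroup.ker_mk']
  rwa [h3] at h2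

/-- The order of `x Z(G)` divides `|C(x) : Z(G)|`. -/
theorem orderOf_dvd_relIndex (x : G) : orderOf (x : G ⧸ center G) ∣
    (center G).relIndex (centralizer ({x} : Set G)) := by
  have h3 : Nat.card ((centralizer ({x} : Set G)).map (QuotientGroup.mk' (center G))) =
      (center G).relIndex (centralizer ({x} : Set G)) := by
    rw [← Subgroup.relIndex_ker, QuotientGroup.ker_mk']
  rw [← h3]
  have h1 : (x : G ⧸ center G) ∈ (centralizer ({x} : Set G)).map (QuotientGroup.mk' (center G)) :=
    ⟨x, mem_cz_self x, rfl⟩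
  exact Subgroup.orderOf_dvd_natCard _ h1

/-- Three nontrivial elements with centralizers of pairwise coprime orders. -/
def Tri (L : Type*) [Group L] : Prop :=
  ∃ a b c : L, a ≠ 1 ∧ b ≠ 1 ∧ c ≠ 1 ∧
    (Nat.card (centralizer ({a} : Set L))).Coprime (Nat.card (centralizer ({b} : Set L))) ∧
    (Nat.card (centralizer ({a} : Set L))).Coprime (Nat.card (centralizer ({c} : Set L))) ∧
    (Nat.card (centralizer ({b} : Set L))).Coprime (Nat.card (centralizer ({c} : Set L)))

omit [Finite G] in
theorem Tri.congr {L M : Type*} [Group L] [Group M] (h : Tri L) (e : L ≃* M) : Tri M := by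
  obtain ⟨a, b, c, ha, hb, hc, h1, h2, h3⟩ := h
  have key : ∀ x : L, Nat.card (centralizer ({e x} : Set M)) = Nat.card (centralizer ({x} : Set L)) := by
    intro x
    symm
    refine Nat.card_congr ⟨fun y => ⟨e y, ?_⟩, fun y => ⟨e.symm y, ?_⟩, ?_, ?_⟩
    · rw [mem_centralizer_singleton_iff, ← map_mul, mem_centralizer_singleton_iff.mp y.2, map_mul]
    · have h4 := mem_centralizer_singleton_iff.mp y.2
      rw [mem_centralizer_singleton_iff]
      apply e.injective
      rw [map_mul, map_mul, e.apply_symm_apply, h4]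
    · intro y; exact Subtype.ext (e.symm_apply_apply _)
    · intro y; exact Subtype.ext (e.apply_symm_apply _)
  refine ⟨e a, e b, e c, ?_, ?_, ?_, ?_, ?_, ?_⟩
  · simpa using ha
  · simpa using hb
  · simpa using hc
  · rwa [key, key]
  · rwa [key, key]
  · rwa [key, key]

/-- The final contradiction: `G / Z(G)` has a normal subgroup of index dividing two with three
centralizers of pairwise coprime orders; then `G` has at least three noncentral class sizes. -/
theorem false_of_tri {n m : ℕ} (hsz : ∀ x : G, x ∉ center G →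
      (centralizer ({x} : Set G)).index = n ∨ (centralizer ({x} : Set G)).index = m)
    (L : Subgroup (G ⧸ center G)) [L.Normal] (hL : L.index ∣ 2) (h : Tri L) : False := by
  have hcard : ∀ a : L, Nat.card (centralizer ({(a : G ⧸ center G)} : Set (G ⧸ center G))) ∣
      Nat.card (centralizer ({a} : Set L)) * 2 := by
    intro a
    set C := centralizer ({(a : G ⧸ center G)} : Set (G ⧸ center G)) with hC
    have h1 : L.relIndex C ∣ 2 := (Subgroup.relIndex_dvd_index_of_normal L C).trans hL
    have h2 : Nat.card (L.subgroupOf C) * L.relIndex C = Nat.card C :=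
      Subgroup.card_mul_index (L.subgroupOf C)
    have h3 : Nat.card (L.subgroupOf C) = Nat.card (centralizer ({a} : Set L)) := by
      refine Nat.card_congr ⟨fun y => ⟨⟨(y : C), y.2⟩, ?_⟩, fun y => ⟨⟨(y : L), ?_⟩, (y : L).2⟩, ?_, ?_⟩
      · rw [mem_centralizer_singleton_iff]
        apply Subtype.ext
        exact mem_centralizer_singleton_iff.mp (y : C).2
      · rw [hC, mem_centralizer_singleton_iff]
        exact congrArg Subtype.val (mem_centralizer_singleton_iff.mp y.2)
      · intro y; rfl
      · intro y; rfl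
    rw [← h2, h3]
    exact Nat.mul_dvd_mul_left _ h1
  -- two elements with the same class size
  have key : ∀ a b : L, a ≠ 1 → b ≠ 1 →
      (Nat.card (centralizer ({a} : Set L))).Coprime (Nat.card (centralizer ({b} : Set L))) →
      ∀ x y : G, (x : G ⧸ center G) = a → (y : G ⧸ center G) = b →
      (centralizer ({x} : Set G)).index ≠ (centralizer ({y} : Set G)).index := by
    intro a b ha hb hab x y hx hy heq
    have h1 := relIndex_mul _ (center_le_cz x)
    have h2 := relIndex_mul _ (center_le_cz y)
    rw [heq, ← h2] at h1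
    have h3 := Nat.eq_of_mul_eq_mul_right
      (Nat.pos_of_ne_zero Subgroup.index_ne_zero_of_finite) h1
    have h4 := relIndex_dvd_card x
    rw [hx] at h4
    replace h4 := h4.trans (hcard a)
    have h5 := relIndex_dvd_card y
    rw [hy] at h5
    replace h5 := h5.trans (hcard b)
    rw [← h3] at h5
    have h6 : (center G).relIndex (centralizer ({x} : Set G)) ∣ 2 := by
      have h7 := Nat.dvd_gcd h4 h5
      rwa [Nat.gcd_mul_right, hab, one_mul] at h7
    have h7 := (orderOf_dvd_relIndex x).trans h6
    have h8 := (orderOf_dvd_relIndex y).trans (h3 ▸ h6)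
    rw [hx, Subgroup.orderOf_coe] at h7
    rw [hy, Subgroup.orderOf_coe] at h8
    have h9 : ∀ c : L, c ≠ 1 → orderOf c ∣ 2 → 2 ∣ Nat.card (centralizer ({c} : Set L)) := by
      intro c hc hc2
      rcases (Nat.dvd_prime Nat.prime_two).mp hc2 with h10 | h10
      · rw [orderOf_eq_one_iff] at h10
        exact absurd h10 hc
      · rw [← h10]
        exact Subgroup.orderOf_dvd_natCard _ (mem_cz_self c)
    have h10 := Nat.eq_one_of_dvd_coprimes hab (h9 a ha h7) (h9 b hb h8)
    omega
  obtain ⟨a, b, c, ha, hb, hc, hab, hac, hbc⟩ := h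
  have hlift : ∀ a : L, a ≠ 1 → ∃ x : G, (x : G ⧸ center G) = a ∧ x ∉ center G := by
    intro a ha
    obtain ⟨x, hx⟩ := QuotientGroup.mk_surjective (a : G ⧸ center G)
    refine ⟨x, hx, fun hc => ha ?_⟩
    apply Subtype.ext
    rw [← hx]
    exact (QuotientGroup.eq_one_iff x).mpr hc
  obtain ⟨x, hx, hxZ⟩ := hlift a ha
  obtain ⟨y, hy, hyZ⟩ := hlift b hb
  obtain ⟨z, hz, hzZ⟩ := hlift c hc
  have h1 := key a b ha hb hab x y hx hy
  have h2 := key a c ha hc hac x z hx hz
  have h3 := key b c hb hc hbc y z hy hz
  rcases hsz x hxZ with h4 | h4 <;> rcases hsz y hyZ with h5 | h5 <;>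
    rcases hsz z hzZ with h6 | h6
  · exact h1 (h4.trans h5.symm)
  · exact h1 (h4.trans h5.symm)
  · exact h2 (h4.trans h6.symm)
  · exact h3 (h5.trans h6.symm)
  · exact h3 (h5.trans h6.symm)
  · exact h2 (h4.trans h6.symm)
  · exact h1 (h4.trans h5.symm)
  · exact h1 (h4.trans h5.symm)

end Cfsg.Agent.H32.Ito
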