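import Cfsg.Agent.H32.Ito.CaseB
import Cfsg.Agent.H32.Ito.CaseC

/-!
# Groups with exactly three class sizes are solvable (S3922), modulo S4366
-/

set_option autoImplicit false

namespace Cfsg.Agent.H32.Ito

open Subgroup Cfsg.Agent.H524.ClassSize

/-- If a prime `s` divides no class size then `s ∤ |G : Z(G)|`. -/
theorem not_dvd_of_sizes {G : Type*} [Group G] [Finite G] {s : ℕ} (hs : s.Prime)
    (h : ∀ x : G, ¬ s ∣ (centralizer ({x} : Set G)).index) : ¬ s ∣ (center G).index := by
  have : Fact s.Prime := ⟨hs⟩
  obtain ⟨P⟩ : Nonempty (Sylow s G) := inferInstance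
  -- `C(P) = G`
  have h1 : centralizer ((P : Subgroup G) : Set G) = ⊤ := by
    by_contra hne
    obtain ⟨x, hx⟩ := Cfsg.Agent.H395.Jordan.exists_not_conj_mem hne
    obtain ⟨g, hg⟩ := Cfsg.Agent.H531.TwoPrimes.conj_mem_centralizer P (h x)
    apply hx g⁻¹
    rwa [inv_inv]
  have h2 : (P : Subgroup G) ≤ center G := by
    intro y hy
    rw [Subgroup.mem_center_iff]
    intro g
    have hg : g ∈ centralizer ((P : Subgroup G) : Set G) := by rw [h1]; exact mem_top g
    exact ((mem_centralizer_iff.mp hg) y hy).symm
  intro hd
  exact P.not_dvd_index (hd.trans (Subgroup.index_dvd_of_le h2))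

theorem main {G : Type*} [Group G] [Finite G]
    (h4366 : ∀ (p : ℕ) [Fact p.Prime] (a : ℕ), 1 ≤ a →
      (∀ x : G, x ∈ (⊤ : Subgroup G) → (∃ y ∈ (⊤ : Subgroup G), x * y ≠ y * x) →
        IsPrimePow (orderOf x) →
        ((Subgroup.centralizer ({x} : Set G)).index).factorization p = a) →
      Group.IsSolvable (⊤ : Subgroup G))
    (n₁ n₂ : ℕ) (h12 : n₂ < n₁) (h2 : 1 < n₂)
    (h : ∀ x : G, (Subgroup.centralizer ({x} : Set G)).index = 1 ∨
      (Subgroup.centralizer ({x} : Set G)).index = n₂ ∨
      (Subgroup.centralizer ({x} : Set G)).index = n₁)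
    (h₁ : ∃ x : G, (Subgroup.centralizer ({x} : Set G)).index = n₁) :
    Group.IsSolvable G := by
  by_contra hns
  have hsz : ∀ x : G, x ∉ center G → (centralizer ({x} : Set G)).index = n₂ ∨
      (centralizer ({x} : Set G)).index = n₁ := by
    intro x hx
    rcases h x with h3 | h3
    · exact absurd (mem_center_iff_index.mpr h3) hx
    · exact h3
  by_cases hd : n₂ ∣ n₁
  · obtain ⟨k, rfl⟩ := hd
    have hk1 : 1 < k := by
      by_contra hk
      have h3 : k = 0 ∨ k = 1 := by omega
      rcases h3 with rfl | rfl <;> omega
    have hQ : ¬ Group.IsSolvable (G ⧸ center G) := fun h => hns (solvable_of_mod_center h)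
    refine hns (SizesC.solvable (n := n₂) (k := k) ⟨h2, hk1, hsz, h₁, ?_, ?_, ?_⟩)
    · intro s hs hsd
      by_contra hsk
      have : Fact s.Prime := ⟨hs⟩
      by_cases hsn : s ∣ n₂
      · apply hns
        have h3 := h4366 s (n₂.factorization s) ?_ ?_
        · exact Group.isSolvable_of_surjective
            (f := (Subgroup.topEquiv : (⊤ : Subgroup G) ≃* G).toMonoidHom)
            (Subgroup.topEquiv : (⊤ : Subgroup G) ≃* G).surjective
        · exact (hs.factorization_pos_of_dvd (by omega) hsn)
        · rintro x - ⟨y, -, hxy⟩ -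
          have hx : x ∉ center G := fun hc => hxy (Subgroup.mem_center_iff.mp hc y).symm
          rcases hsz x hx with h4 | h4
          · rw [h4]
          · rw [h4, Nat.factorization_mul (by omega) (by omega), Finsupp.add_apply,
              Nat.factorization_eq_zero_of_not_dvd hsk, add_zero]
      · refine not_dvd_of_sizes hs ?_ hsd
        intro x hx
        rcases h x with h3 | h3 | h3
        · rw [h3] at hx
          exact hs.one_lt.ne' (Nat.dvd_one.mp hx)
        · rw [h3] at hx
          exact hsn hx
        · rw [h3] at hx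
          exact (hs.dvd_mul.mp hx).elim hsn hsk
    · by_contra h3
      apply hQ
      exact Cfsg.Agent.S0205.result (Nat.not_even_iff_odd.mp (fun he => h3 he.two_dvd))
    · intro q hq hq2
      by_contra hcon
      push Not at hcon
      apply hQ
      have hsub : (Nat.card (G ⧸ center G)).primeFactors ⊆ {2, q} := by
        intro s hs
        rw [Nat.mem_primeFactors] at hs
        by_cases h3 : s = 2
        · simp [h3]
        · by_cases h4 : s = q
          · simp [h4]
          · exact absurd hs.2.1 (hcon s hs.1 h3 h4)
      have hcard := Nat.prod_factorization_pow_eq_self (n := Nat.card (G ⧸ center G))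
        Nat.card_pos.ne'
      rw [Finsupp.prod, Nat.support_factorization] at hcard
      refine Cfsg.Agent.S0144.result 2 q ((Nat.card (G ⧸ center G)).factorization 2)
        ((Nat.card (G ⧸ center G)).factorization q) Nat.prime_two hq ?_
      rw [← Finset.prod_pair (f := fun p => p ^ ((Nat.card (G ⧸ center G)).factorization p))
        hq2.symm]
      rw [← Finset.prod_subset hsub, hcard]
      intro x _ hx
      have : (Nat.card (G ⧸ center G)).factorization x = 0 := by
        rwa [← Finsupp.notMem_support_iff, Nat.support_factorization]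
      rw [this, pow_zero]
  · exact hns (solvable_of_not_dvd h12 hd hsz)

end Cfsg.Agent.H32.Ito
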