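import Cfsg.Agent.H32.Ito.FGroup
import Cfsg.Agent.ClassicalGeometry.PSL2Basic
import Cfsg.Agent.S0205
import Cfsg.Agent.S0252
import Cfsg.Agent.S0253
import Cfsg.Agent.S0564
import Cfsg.Agent.S2507
import Cfsg.Agent.S2508
import Cfsg.Agent.H564.SzRee
import Cfsg.Agent.H531.TwoPrimes
import Cfsg.Agent.H682.CT.TwoPrime
import Cfsg.Agent.SignalizersComponents.BalEndSz

/-!
# Three centralizers of pairwise coprime orders in `PSL(2,q)` and `Sz(q)` (for S3922)
-/

set_option autoImplicit false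

namespace Cfsg.Agent.H32.Ito

open Subgroup Matrix
open scoped Pointwise

theorem card_cz {L : Type*} [Group L] [Finite L] {x : L} {N i c : ℕ} (hN : Nat.card L = N)
    (hi : (centralizer ({x} : Set L)).index = i) (hi0 : 0 < i) (h : N = c * i) :
    Nat.card (centralizer ({x} : Set L)) = c := by
  have h1 := Subgroup.card_mul_index (centralizer ({x} : Set L))
  rw [hN, hi, h] at h1
  exact Nat.eq_of_mul_eq_mul_right hi0 h1

theorem ne_one_of_index {L : Type*} [Group L] [Finite L] {x : L} {i : ℕ}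
    (hi : (centralizer ({x} : Set L)).index = i) (h : i ≠ 1) : x ≠ 1 := by
  rintro rfl
  apply h
  rw [← hi, ← mem_center_iff_index]
  exact one_mem _

theorem tri_even {F : Type*} [Field F] [Fintype F] (h2 : 2 ∣ Fintype.card F)
    (h4 : 4 ≤ Fintype.card F) : Tri (ProjectiveSpecialLinearGroup (Fin 2) F) := by
  have hcard := Cfsg.Agent.ClassicalGeometry.PSL2Basic.card_PSL2_even F (even_iff_two_dvd.mpr h2)
  have hr := Cfsg.Agent.S2507.result h2 h4
  generalize Fintype.card F = q at hcard hr h2 h4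
  obtain ⟨k, rfl⟩ : ∃ k, q = k + 1 := ⟨q - 1, by omega⟩
  have hex : ∀ i ∈ ({1, (k + 1) * (k + 1 - 1), (k + 1) ^ 2 - 1, (k + 1) * (k + 1 + 1)} : Set ℕ),
      ∃ x : ProjectiveSpecialLinearGroup (Fin 2) F, (centralizer ({x} : Set _)).index = i := by
    intro i hi
    rw [← hr] at hi
    exact hi
  have e1 : (k + 1) ^ 2 - 1 = k * (k + 2) := by
    have : (k + 1) ^ 2 = k * (k + 2) + 1 := by ring
    omega
  rw [e1] at hcard hex
  rw [Nat.add_sub_cancel] at hex
  obtain ⟨a, ha⟩ := hex ((k + 1) * k) (by simp)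
  obtain ⟨b, hb⟩ := hex (k * (k + 2)) (by simp)
  obtain ⟨c, hc⟩ := hex ((k + 1) * (k + 1 + 1)) (by simp)
  have h3 : 3 ≤ k := by omega
  have ca := card_cz (c := k + 2) hcard ha (by positivity) (by ring)
  have cb := card_cz (c := k + 1) hcard hb (by positivity) (by ring)
  have cc := card_cz (c := k) hcard hc (by positivity) (by ring)
  have hodd : ¬ 2 ∣ k := by omega
  have g1 : Nat.Coprime (k + 1) k := by simp
  have g2 : Nat.Coprime (k + 2) (k + 1) := by
    have : Nat.Coprime ((k + 1) + 1) (k + 1) := by simp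
    exact this
  have g3 : Nat.Coprime (k + 2) k := by
    rw [add_comm, Nat.coprime_add_self_left]
    exact (Nat.Prime.coprime_iff_not_dvd Nat.prime_two).mpr hodd
  refine ⟨a, b, c, ne_one_of_index ha ?_, ne_one_of_index hb ?_, ne_one_of_index hc ?_, ?_, ?_, ?_⟩
  · nlinarith
  · nlinarith
  · nlinarith
  · rw [ca, cb]; exact g2
  · rw [ca, cc]; exact g3
  · rw [cb, cc]; exact g1

theorem tri_odd {F : Type*} [Field F] [Fintype F] (h2 : ¬ 2 ∣ Fintype.card F)
    (h7 : 7 ≤ Fintype.card F) : Tri (ProjectiveSpecialLinearGroup (Fin 2) F) := by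
  have hcard := Cfsg.Agent.ClassicalGeometry.PSL2Basic.card_PSL2_odd F
    (by rw [← Nat.not_even_iff_odd, even_iff_two_dvd]; exact h2)
  have hr := Cfsg.Agent.S2508.result h2 h7
  generalize Fintype.card F = q at hcard hr h2 h7
  obtain ⟨k, rfl⟩ : ∃ k, q = 2 * k + 1 := ⟨q / 2, by omega⟩
  have e1 : (2 * k + 1) ^ 2 - 1 = 4 * (k * (k + 1)) := by
    have : (2 * k + 1) ^ 2 = 4 * (k * (k + 1)) + 1 := by ring
    omega
  have e2 : ((2 * k + 1) ^ 2 - 1) / 2 = 2 * (k * (k + 1)) := by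
    rw [e1]; omega
  have hcard' : Nat.card (ProjectiveSpecialLinearGroup (Fin 2) F) =
      (2 * k + 1) * (2 * (k * (k + 1))) := by
    rw [e1] at hcard
    have : (2 * k + 1) * (4 * (k * (k + 1))) = ((2 * k + 1) * (2 * (k * (k + 1)))) * 2 := by ring
    rw [this] at hcard
    exact Nat.eq_of_mul_eq_mul_right (by norm_num) hcard
  obtain ⟨⟨a, ha⟩, ⟨b, hb⟩, ⟨c, hc⟩⟩ :
      (∃ x : ProjectiveSpecialLinearGroup (Fin 2) F, (centralizer ({x} : Set _)).index =
        2 * (k * (k + 1))) ∧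
      (∃ x : ProjectiveSpecialLinearGroup (Fin 2) F, (centralizer ({x} : Set _)).index =
        (2 * k + 1) * (2 * k)) ∧
      (∃ x : ProjectiveSpecialLinearGroup (Fin 2) F, (centralizer ({x} : Set _)).index =
        (2 * k + 1) * (2 * (k + 1))) := by
    have hmod : (2 * k + 1) % 4 = 1 ∨ (2 * k + 1) % 4 = 3 := by omega
    rw [e2] at hr
    have e3 : 2 * k + 1 - 1 = 2 * k := by omega
    have e4 : 2 * k + 1 + 1 = 2 * (k + 1) := by ring
    rw [e3, e4] at hr
    rcases hmod with h | h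
    · have hr1 := hr.1 h
      have hex : ∀ i ∈ ({1, 2 * (k * (k + 1)), (2 * k + 1) * (2 * (k + 1)) / 2,
          (2 * k + 1) * (2 * k), (2 * k + 1) * (2 * (k + 1))} : Set ℕ),
          ∃ x : ProjectiveSpecialLinearGroup (Fin 2) F, (centralizer ({x} : Set _)).index = i := by
        intro i hi
        rw [← hr1] at hi
        exact hi
      exact ⟨hex _ (by simp), hex _ (by simp), hex _ (by simp)⟩
    · have hr1 := hr.2 h
      have hex : ∀ i ∈ ({1, 2 * (k * (k + 1)), (2 * k + 1) * (2 * k) / 2,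
          (2 * k + 1) * (2 * (k + 1)), (2 * k + 1) * (2 * k)} : Set ℕ),
          ∃ x : ProjectiveSpecialLinearGroup (Fin 2) F, (centralizer ({x} : Set _)).index = i := by
        intro i hi
        rw [← hr1] at hi
        exact hi
      exact ⟨hex _ (by simp), hex _ (by simp), hex _ (by simp)⟩
  have h3 : 3 ≤ k := by omega
  have ca := card_cz (c := 2 * k + 1) hcard' ha (by positivity) (by ring)
  have cb := card_cz (c := k + 1) hcard' hb (by positivity) (by ring)
  have cc := card_cz (c := k) hcard' hc (by positivity) (by ring)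
  have g1 : Nat.Coprime (k + 1) k := by simp
  have g2 : Nat.Coprime (2 * k + 1) (k + 1) := by
    have : 2 * k + 1 = (k + 1) + k := by ring
    rw [this, Nat.coprime_self_add_left]
    exact g1.symm
  have g3 : Nat.Coprime (2 * k + 1) k := by
    have : 2 * k + 1 = (k + 1) + k := by ring
    rw [this, Nat.coprime_add_self_left]
    exact g1
  refine ⟨a, b, c, ne_one_of_index ha ?_, ne_one_of_index hb ?_, ne_one_of_index hc ?_, ?_, ?_, ?_⟩
  · nlinarith
  · nlinarith
  · nlinarith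
  · rw [ca, cb]; exact g2
  · rw [ca, cc]; exact g3
  · rw [cb, cc]; exact g1

theorem tri_psl {F : Type*} [Field F] [Fintype F] (h4 : 4 ≤ Fintype.card F) :
    Tri (ProjectiveSpecialLinearGroup (Fin 2) F) := by
  by_cases h2 : 2 ∣ Fintype.card F
  · exact tri_even h2 h4
  · by_cases h7 : 7 ≤ Fintype.card F
    · exact tri_odd h2 h7
    · have h5 : Fintype.card F = 5 := by omega
      obtain ⟨e⟩ := Cfsg.Agent.S0253.result h5
      have : Fintype (GaloisField 2 2) := Fintype.ofFinite _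
      have hc : Fintype.card (GaloisField 2 2) = 4 := by
        rw [Fintype.card_eq_nat_card, GaloisField.card 2 2 (by norm_num)]; norm_num
      obtain ⟨e'⟩ := Cfsg.Agent.S0252.result hc
      exact (tri_even (F := GaloisField 2 2) (by rw [hc]; norm_num) (by rw [hc])).congr
        (e'.trans e.symm)

/-- A subgroup containing the centralizers of its nontrivial elements contains a Sylow subgroup. -/
theorem sylow_le_of_cc {L : Type*} [Group L] [Finite L] {T : Subgroup L}
    (hT : ∀ y ∈ T, y ≠ 1 → centralizer ({y} : Set L) ≤ T) {s : ℕ} [hs : Fact s.Prime]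
    (hd : s ∣ Nat.card T) : ∃ S : Sylow s L, (S : Subgroup L) ≤ T := by
  obtain ⟨y, hy⟩ := exists_prime_orderOf_dvd_card' s hd
  have hy1 : (y : L) ≠ 1 := by
    intro h
    have : y = 1 := Subtype.ext h
    rw [this, orderOf_one] at hy
    exact hs.out.one_lt.ne hy
  have hz : IsPGroup s (zpowers (y : L)) := by
    apply IsPGroup.of_card (n := 1)
    rw [Nat.card_zpowers, Subgroup.orderOf_coe, hy, pow_one]
  obtain ⟨S, hS⟩ := hz.exists_le_sylow
  have hyS : (y : L) ∈ (S : Subgroup L) := hS (mem_zpowers _)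
  have : Nontrivial (S : Subgroup L) := ⟨⟨⟨y, hyS⟩, 1, fun h => hy1 (congrArg Subtype.val h)⟩⟩
  have hcn : Nontrivial (center (S : Subgroup L)) := S.2.center_nontrivial
  obtain ⟨⟨z, hz⟩, hz1⟩ := exists_ne (1 : center (S : Subgroup L))
  have hz1' : (z : L) ≠ 1 := by
    intro h
    apply hz1
    apply Subtype.ext
    apply Subtype.ext
    exact h
  have hcomm : ∀ a ∈ (S : Subgroup L), a * (z : L) = z * a := by
    intro a ha
    exact congrArg Subtype.val (Subgroup.mem_center_iff.mp hz ⟨a, ha⟩)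
  have hzT : (z : L) ∈ T := by
    apply hT y y.2 hy1
    rw [mem_centralizer_singleton_iff]
    exact (hcomm y hyS).symm
  refine ⟨S, fun a ha => hT z hzT hz1' ?_⟩
  rw [mem_centralizer_singleton_iff]
  exact hcomm a ha

/-- Two such abelian subgroups of non-coprime orders have the same order. -/
theorem card_eq_of_cc {L : Type*} [Group L] [Finite L] {T U : Subgroup L}
    (hT : ∀ y ∈ T, y ≠ 1 → centralizer ({y} : Set L) ≤ T) (hTc : ∀ a ∈ T, ∀ b ∈ T, b * a = a * b)
    (hU : ∀ y ∈ U, y ≠ 1 → centralizer ({y} : Set L) ≤ U) (hUc : ∀ a ∈ U, ∀ b ∈ U, b * a = a * b)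
    (h : ¬ (Nat.card T).Coprime (Nat.card U)) : Nat.card T = Nat.card U := by
  obtain ⟨s, hs, hsT, hsU⟩ := Nat.Prime.not_coprime_iff_dvd.mp h
  have : Fact s.Prime := ⟨hs⟩
  obtain ⟨S, hST⟩ := sylow_le_of_cc hT hsT
  obtain ⟨R, hRU⟩ := sylow_le_of_cc hU hsU
  obtain ⟨g, hg⟩ := MulAction.exists_smul_eq L S R
  have hmem : ∀ x ∈ (S : Subgroup L), g * x * g⁻¹ ∈ (R : Subgroup L) := by
    intro x hx
    rw [← hg]
    change g * x * g⁻¹ ∈ MulAut.conj g • (S : Subgroup L)
    rw [Subgroup.mem_pointwise_smul_iff_inv_smul_mem]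
    simpa [MulAut.smul_def, mul_assoc] using hx
  -- a nontrivial element of `S`
  obtain ⟨x, hx, hx1⟩ : ∃ x ∈ (S : Subgroup L), x ≠ 1 := by
    refine (Subgroup.bot_or_exists_ne_one (S : Subgroup L)).resolve_left ?_
    intro hb
    have h1 : s ∣ Nat.card L := hsT.trans (Subgroup.card_subgroup_dvd_card T)
    have h2 := Sylow.dvd_card_of_dvd_card S h1
    rw [hb, Subgroup.card_bot] at h2
    exact hs.one_lt.ne' (Nat.dvd_one.mp h2)
  have h1 : ∀ t ∈ T, g * t * g⁻¹ ∈ U := by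
    intro t ht
    apply hU (g * x * g⁻¹) (hRU (hmem x hx))
    · intro h2
      apply hx1
      rwa [conj_eq_one_iff] at h2
    · rw [mem_centralizer_singleton_iff]
      have h3 := hTc x (hST hx) t ht
      calc g * t * g⁻¹ * (g * x * g⁻¹) = g * (t * x) * g⁻¹ := by group
        _ = g * (x * t) * g⁻¹ := by rw [h3]
        _ = g * x * g⁻¹ * (g * t * g⁻¹) := by group
  have h2 : ∀ u ∈ U, g⁻¹ * u * g ∈ T := by
    intro u hu
    apply hT x (hST hx) hx1
    rw [mem_centralizer_singleton_iff]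
    have h3 := hUc (g * x * g⁻¹) (hRU (hmem x hx)) u hu
    calc g⁻¹ * u * g * x = g⁻¹ * (u * (g * x * g⁻¹)) * g := by group
      _ = g⁻¹ * (g * x * g⁻¹ * u) * g := by rw [h3]
      _ = x * (g⁻¹ * u * g) := by group
  refine Nat.card_congr ⟨fun t => ⟨g * t * g⁻¹, h1 t t.2⟩, fun u => ⟨g⁻¹ * u * g, h2 u u.2⟩, ?_, ?_⟩
  · intro t; apply Subtype.ext; simp only; group
  · intro t; apply Subtype.ext; simp only; group

/-- An abelian subgroup whose index is a power of two: `G` is solvable. -/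
theorem solvable_of_comm_index' {G : Type*} [Group G] [Finite G] {D : Subgroup G}
    (hD : ∀ a ∈ D, ∀ b ∈ D, b * a = a * b)
    (hi : ∀ s : ℕ, s.Prime → s ∣ D.index → s = 2) : Group.IsSolvable G := by
  have : Fact (Nat.Prime 2) := ⟨Nat.prime_two⟩
  obtain ⟨P⟩ : Nonempty (Sylow 2 G) := inferInstance
  have h1 : Group.IsNilpotent D := by
    let _ : CommGroup D :=
      { (inferInstance : Group D) with mul_comm := fun a b => Subtype.ext (hD b b.2 a a.2) }
    exact CommGroup.isNilpotent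
  have h2 : Group.IsNilpotent (P : Subgroup G) := P.2.isNilpotent
  refine Cfsg.Agent.S0564.result D P h1 h2 ?_
  intro g
  apply Cfsg.Agent.H682.CT.TwoPrime.exists_mul_of_coprime
  rw [Nat.coprime_iff_gcd_eq_one]
  by_contra hne
  obtain ⟨s, hs, hsd⟩ := Nat.exists_prime_and_dvd hne
  have h3 := hi s hs (hsd.trans (Nat.gcd_dvd_left _ _))
  subst h3
  exact P.not_dvd_index (hsd.trans (Nat.gcd_dvd_right _ _))

theorem tri_suzuki {L : Type*} [Group L] [Finite L] (h : Cfsg.Lie.IsoSuzuki L)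
    (hns : ¬ Group.IsSolvable L) : Tri L := by
  have : Fact (Nat.Prime 2) := ⟨Nat.prime_two⟩
  have hcyc : ∀ r : ℕ, r.Prime → r ≠ 2 → r ∣ Nat.card L → ∃ T : Subgroup L, r ∣ Nat.card T ∧
      (∀ a ∈ T, ∀ b ∈ T, b * a = a * b) ∧ ∀ y ∈ T, y ≠ 1 → centralizer ({y} : Set L) ≤ T := by
    intro r hr hr2 hd
    obtain ⟨T, h1, h2, h3⟩ := Cfsg.Agent.H564.SzRee.sz_cyc h hr hr2 hd
    refine ⟨T, h1, fun a ha b hb => ?_, h3⟩
    have := (IsCyclic.commGroup (α := T)).mul_comm ⟨b, hb⟩ ⟨a, ha⟩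
    exact congrArg Subtype.val this
  -- an odd prime
  obtain ⟨r, hr, hr2, hrd⟩ : ∃ r : ℕ, r.Prime ∧ r ≠ 2 ∧ r ∣ Nat.card L := by
    by_contra hcon
    push Not at hcon
    apply hns
    apply solvable_of_comm_index' (D := (⊥ : Subgroup L))
    · intro a ha b hb
      rw [Subgroup.mem_bot.mp ha, Subgroup.mem_bot.mp hb]
    · intro s hs hsd
      rw [Subgroup.index_bot] at hsd
      by_contra h2
      exact hcon s hs h2 hsd
  obtain ⟨T, hrT, hTc, hT⟩ := hcyc r hr hr2 hrd
  obtain ⟨s, hs, hs2, hsd, U, hsU, hUc, hU, hcop⟩ : ∃ s : ℕ, s.Prime ∧ s ≠ 2 ∧ s ∣ Nat.card L ∧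
      ∃ U : Subgroup L, s ∣ Nat.card U ∧ (∀ a ∈ U, ∀ b ∈ U, b * a = a * b) ∧
      (∀ y ∈ U, y ≠ 1 → centralizer ({y} : Set L) ≤ U) ∧
      (Nat.card T).Coprime (Nat.card U) := by
    by_contra hcon
    push Not at hcon
    apply hns
    apply solvable_of_comm_index' hTc
    intro s hs hsd
    by_contra hs2
    have hsd' : s ∣ Nat.card L := hsd.trans (Subgroup.index_dvd_card T)
    obtain ⟨U, hsU, hUc, hU⟩ := hcyc s hs hs2 hsd'
    have h1 := card_eq_of_cc hT hTc hU hUc (hcon s hs hs2 hsd' U hsU hUc hU)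
    rw [← h1] at hsU
    have : Fact s.Prime := ⟨hs⟩
    obtain ⟨S, hS⟩ := sylow_le_of_cc hT hsU
    exact S.not_dvd_index (hsd.trans (Subgroup.index_dvd_of_le hS))
  -- an involution
  have h2L : 2 ∣ Nat.card L := by
    by_contra h2
    apply hns
    exact Cfsg.Agent.S0205.result (Nat.not_even_iff_odd.mp (fun he => h2 he.two_dvd))
  obtain ⟨t, ht⟩ := exists_prime_orderOf_dvd_card' 2 h2L
  have hcent : ∀ (V : Subgroup L) (q : ℕ), q.Prime → q ≠ 2 → q ∣ Nat.card V →
      (∀ a ∈ V, ∀ b ∈ V, b * a = a * b) → (∀ y ∈ V, y ≠ 1 → centralizer ({y} : Set L) ≤ V) →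
      ∃ x : L, x ≠ 1 ∧ centralizer ({x} : Set L) = V ∧ ¬ 2 ∣ Nat.card V := by
    intro V q hq hq2 hqV hVc hV
    have : Fact q.Prime := ⟨hq⟩
    have hle : ∀ y ∈ V, V ≤ centralizer ({y} : Set L) := by
      intro y hy b hb
      rw [mem_centralizer_singleton_iff]
      exact hVc y hy b hb
    obtain ⟨x, hx⟩ := exists_prime_orderOf_dvd_card' q hqV
    have hx1 : (x : L) ≠ 1 := by
      intro h1
      have : x = 1 := Subtype.ext h1
      rw [this, orderOf_one] at hx
      exact hq.one_lt.ne hx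
    refine ⟨x, hx1, le_antisymm (hV x x.2 hx1) (hle x x.2), ?_⟩
    intro h2
    obtain ⟨i, hi⟩ := exists_prime_orderOf_dvd_card' 2 h2
    have hi' : orderOf (i : L) = 2 := by rw [Subgroup.orderOf_coe, hi]
    have h3 := Cfsg.Agent.SignalizersComponents.BalEndSz.isPGroup_centralizer_suzuki h hi'
    have h4 : (x : L) ∈ centralizer ({(i : L)} : Set L) := hle i i.2 x.2
    obtain ⟨k, hk⟩ := IsPGroup.iff_orderOf.mp h3 ⟨x, h4⟩
    rw [Subgroup.orderOf_mk, Subgroup.orderOf_coe, hx] at hk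
    have h5 : q ∣ 2 ^ k := by rw [← hk]
    exact hq2 ((Nat.prime_dvd_prime_iff_eq hq Nat.prime_two).1 (hq.dvd_of_dvd_pow h5))
  obtain ⟨x, hx1, hxT, hT2⟩ := hcent T r hr hr2 hrT hTc hT
  obtain ⟨y, hy1, hyU, hU2⟩ := hcent U s hs hs2 hsU hUc hU
  have ht1 : t ≠ 1 := by
    rintro rfl
    rw [orderOf_one] at ht
    omega
  obtain ⟨k, hk⟩ := IsPGroup.iff_card.mp
    (Cfsg.Agent.SignalizersComponents.BalEndSz.isPGroup_centralizer_suzuki h ht)
  refine ⟨t, x, y, ht1, hx1, hy1, ?_, ?_, ?_⟩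
  · rw [hk, hxT]
    exact Nat.Coprime.pow_left _ ((Nat.Prime.coprime_iff_not_dvd Nat.prime_two).mpr hT2)
  · rw [hk, hyU]
    exact Nat.Coprime.pow_left _ ((Nat.Prime.coprime_iff_not_dvd Nat.prime_two).mpr hU2)
  · rw [hxT, hyU]
    exact hcop

end Cfsg.Agent.H32.Ito
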